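import Cfsg.Agent.Lib.DD.Sig
import Cfsg.Agent.Lib.Big.ZD

/-!
# Strongly closed 2-subgroups of rank one: definitions

`SCs 𝒟`: the union `𝒟` of the conjugates of a strongly closed subgroup of a Sylow 2-subgroup.
`Lam 𝒟 K`: `K v` is the image of the centralizer of a lift of `v` in a central extension.
-/

set_option autoImplicit false

namespace Cfsg.Lib.SCQ
open Subgroup Cfsg.Lib Cfsg.Lib.FT Cfsg.Lib.GW Cfsg.Lib.BSW Cfsg.Lib.DD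

variable {G : Type*} [Group G]

/-- an invariant set of 2-elements meeting every 2-subgroup in a subgroup -/
structure SCs (𝒟 : Set G) : Prop where
  one : (1 : G) ∈ 𝒟
  conj : ∀ x ∈ 𝒟, ∀ g : G, g * x * g⁻¹ ∈ 𝒟
  two : ∀ x ∈ 𝒟, IsPGroup 2 (zpowers x)
  mul : ∀ P : Subgroup G, IsPGroup 2 P → ∀ x ∈ P, ∀ y ∈ P, x ∈ 𝒟 → y ∈ 𝒟 → x * y ∈ 𝒟

/-- the commutator form of a central extension -/
structure Lam (𝒟 : Set G) (K : G → Subgroup G) : Prop where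
  le : ∀ v, K v ≤ C1[v]
  self : ∀ v, v ∈ K v
  symm : ∀ v x, x ∈ K v → v ∈ K x
  conj : ∀ v x g, x ∈ K v → g * x * g⁻¹ ∈ K (g * v * g⁻¹)
  two : ∀ v, v * v = 1 → ∀ x ∈ C1[v], ∀ y ∈ C1[v], x ∉ K v → y ∉ K v → x * y ∈ K v
  ne : ∀ v ∈ 𝒟, ∀ w ∈ 𝒟, orderOf v = 2 → orderOf w = 2 → w ∈ K v → w = v

/-- the minimal counterexample modulo its centre -/
structure Ctx (𝒟 : Set G) (K : G → Subgroup G) (T D : Subgroup G) (r z a : G) : Prop where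
  sc : SCs 𝒟
  lam : Lam 𝒟 K
  syl : IsSylowIn 2 T ⊤
  memD : ∀ x, x ∈ D ↔ x ∈ T ∧ x ∈ 𝒟
  dh : Dh D r z a
  Tz : T ≤ C1[z]
  simple : IsSimpleGroup G
  ih : ∀ H : Subgroup G, H ≠ ⊤ → ∀ x ∈ closure (𝒟 ∩ H), IsPGroup 2 (zpowers x) → x ∈ 𝒟

/-- the elements commuting with `X` together with their lifts -/
def Ct (K : G → Subgroup G) (X : Subgroup G) : Subgroup G := ⨅ u ∈ X, K u

theorem mem_Ct {K : G → Subgroup G} {X : Subgroup G} {x : G} : x ∈ Ct K X ↔ ∀ u ∈ X, x ∈ K u := by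
  simp [Ct, mem_iInf]

/-- `T = D × R` with `R` strongly closed and the involutions of `D` fused -/
structure Prd (𝒟 : Set G) (T D R : Subgroup G) (r z a : G) : Prop where
  sc : SCs 𝒟
  syl : IsSylowIn 2 T ⊤
  memD : ∀ x, x ∈ D ↔ x ∈ T ∧ x ∈ 𝒟
  dh : Dh D r z a
  simple : IsSimpleGroup G
  ih : ∀ H : Subgroup G, H ≠ ⊤ → ∀ x ∈ closure (𝒟 ∩ H), IsPGroup 2 (zpowers x) → x ∈ 𝒟
  RT : R ≤ T
  comm : ∀ d ∈ D, ∀ x ∈ R, d * x = x * d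
  disj : ∀ x ∈ D, x ∈ R → x = 1
  dec : ∀ t ∈ T, ∃ d ∈ D, ∃ x ∈ R, d * x = t
  scR : ∀ x ∈ R, ∀ g : G, g * x * g⁻¹ ∈ T → g * x * g⁻¹ ∈ R
  fus : ∀ v ∈ D, orderOf v = 2 → Cj z v
  /-- `D O(C(z))` contains `𝒟 ∩ C(z)`, hence it is normal in `C(z)` -/
  loc : ∀ x ∈ 𝒟, x ∈ C1[z] → ∃ d ∈ D, x * d⁻¹ ∈ O[C1[z]]

end Cfsg.Lib.SCQ
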