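import Cfsg.Agent.Lib.SCQ.Defs
import Cfsg.Agent.Lib.SC.Basic

/-!
# `T = D × R` with both factors strongly closed: `R = 1`

Sketch. `I = z^G` = involutions of `𝒟` (`fus`, Sylow). `O_x = O[C1[x]]`.
* `v ∈ I(D)`: some conjugate `T^g = D^g × R^g` has `z^g = v` and contains `⟨v⟩ R`; `R^g = R` (`scR`, orders), so
  `D_v = D^g ≤ C(R)`, and `𝒟 ∩ C(v) ⊆ D_v O_v ⊴ C(v)` (`loc`).
* connectivity: if `I ∩ C(v) ⊆ M` for all `v ∈ I(D)`, then `M = ⊤`, provided `R ≠ 1`: `M* = cX ⊤ z ⊇ C(z) ⊇ T`; `I ∩ M*`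
  is the component of `z` (conjugate into `T` inside `M*`), so if `M* ≠ ⊤`, `Big.zd_pure` (products of commuting members
  of `I` lie in `𝒟`, `closure I = ⊤`) puts an involution of `R` into `𝒟 ∩ T = D`. If `M* = ⊤` then `P y := y ∈ M` is
  `Adj`-invariant (`D ≤ M`, `𝒟 ∩ P = D` for a Sylow `P ⊇ D` of `M`), so `I ⊆ M`.
* `R ≠ 1`: `e ∈ R ∩ Z(T)` involution, not isolated by `Z*`, so `U = four e e' ≤ R`. For `v ∈ I(D)` and a four-group
  `V = four z w ≤ D`, `(V, U)` is core-separated (pattern `DD.Fus.coreSep`): for `a ∈ V`: `V ≤ D_a O_a`;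
  for `a = v u`: `v` is isolated in `C(a)`, `C(a) = O_a C(v, u)`; for `a = u`: `L = ⟨𝒟 ∩ C(u)⟩ ⊴ C(u)` has Sylow `D` (`ih`),
  a 2-component lies in `L O_u` or centralizes `L` mod `O_u`, and each `u' ∈ U` is isolated in `L⟨u'⟩`, so `[L, U] ≤ O_u`.
* `gsTheta V x = th x v` for `v ∈ V#`, `V ≤ C(x)` (pattern `gs_eq`; `O(C(V)) ≤ O_v` because an odd group acting on the
  dihedral group `D_v O_v / O_v` and centralizing `V` acts trivially), `gsTheta U u = O_u`, `gsTheta V v = O_v`. So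
  `W e e' z = W e e' v` is odd (`gs_sig`, `solvable_sft_two`, `eq_W`), contains `[O_v, U]`, and is normalized by `C(U, v)`.
  Hence `O_v D_v ≤ N(W)` for `v ∈ I(D)`, `N(W) = ⊤`, `W = ⊥`, `O_v D_v ≤ C(e)`, `C(e) = ⊤`: contradiction.
-/

set_option autoImplicit false

namespace Cfsg.Lib.SCQ
open Subgroup Cfsg.Lib Cfsg.Lib.FT Cfsg.Lib.GW Cfsg.Lib.BSW Cfsg.Lib.DD
open scoped commutatorElement

variable {G : Type*} [Group G]

/-- the elements of `X` centralizing `y` modulo `O(X)` -/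
def cmo (X : Subgroup G) (y : G) : Subgroup G where
  carrier := {k | k ∈ X ∧ k * y * k⁻¹ * y⁻¹ ∈ O[X]}
  one_mem' := ⟨one_mem _, by simp⟩
  mul_mem' {k l} hk hl := ⟨mul_mem hk.1 hl.1, by
    simpa [mul_assoc] using mul_mem (conj_mem_of_le_normalizer (le_normalizer_piCoreOf _ _) hk.1 hl.2) hk.2⟩
  inv_mem' {k} hk := ⟨inv_mem hk.1, by
    simpa [mul_assoc] using conj_mem_of_le_normalizer (le_normalizer_piCoreOf _ _) (inv_mem hk.1) (inv_mem hk.2)⟩

theorem oc_le_cmo {X : Subgroup G} {y : G} (hy : y ∈ X) : O[X] ≤ cmo X y := fun o ho => ⟨oc_le _ ho, by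
  simpa [mul_assoc] using mul_mem ho (conj_mem_of_le_normalizer (le_normalizer_piCoreOf _ _) hy (inv_mem ho))⟩

variable [Finite G] {𝒟 : Set G} {T D R : Subgroup G} {r z a : G}

theorem dh_cent (h : Dh D r z a) (hD : IsPGroup 2 D) {k : G} (ho : Odd (orderOf k)) (hn : k ∈ N[D])
    (hz : k ∈ C1[z]) {d : G} (hd : d ∈ D) : k * d = d * k := by
  have hr : k ∈ C1[r] := by
    by_cases e : r * r = 1
    · rcases (mem_zpowers_two e).1 h.zr with e' | e'
      · exact (h.z_ne e').elim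
      · exact e' ▸ hz
    · exact mem_c1.2 (mem_centralizer_iff.1 (le_centralizer_of_isCyclic_two inferInstance (hD.to_le h.le)
        (A := zpowers k) (by rwa [Nat.card_zpowers]) (zpowers_le.2 (h.normalizer_le e hn)) (mem_zpowers k)) r
        (mem_zpowers r)).symm
  have hc : ∀ x ∈ zpowers r, Commute x k := fun x hx => mem_c1.1 (zpowers_le.2 (mem_c1_symm hr) hx)
  have h1 := h.mul _ h.ha _ (conj_mem_of_mem_normalizer hn h.ha) h.ar fun e => h.ar (by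
    rwa [show a = k⁻¹ * (k * a * k⁻¹ * k) by group, (hc _ e).eq, inv_mul_cancel_left])
  have ha : k ∈ C1[a] := by
    have h2 : (a * (k * a * k⁻¹)) ^ orderOf k = 1 := by
      have := (hc _ h1).mul_pow (orderOf k)
      rw [pow_orderOf_eq_one, mul_one] at this
      rw [← this, show a * (k * a * k⁻¹) * k = a * k * a⁻¹ by rw [inv_eq_of_mul_eq_one_right h.aa]; group,
        conj_pow, pow_orderOf_eq_one]; group
    have h3 := Bender.eq_one_of_odd_of_two hD (h.le h1) (ho.of_dvd_nat (orderOf_dvd_of_pow_eq_one h2))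
    exact c1_of_conj ((inv_eq_of_mul_eq_one_right h3).symm.trans (inv_eq_of_mul_eq_one_right h.aa))
  exact (mem_c1.1 (h.le_of (mem_c1_symm ha) (mem_c1_symm hr) hd)).symm

namespace Prd
variable (h : Prd 𝒟 T D R r z a)
include h

omit [Finite G] in
theorem DT : D ≤ T := fun x hx => ((h.memD x).1 hx).1

omit [Finite G] in
theorem le_of {X : Subgroup G} (h1 : D ≤ X) (h2 : R ≤ X) : T ≤ X := fun t ht => by
  obtain ⟨d, hd, x, hx, rfl⟩ := h.dec t ht
  exact mul_mem (h1 hd) (h2 hx)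

omit [Finite G] in
theorem Rc {d : G} (hd : d ∈ D) : R ≤ C1[d] := fun x hx => mem_c1.2 (h.comm d hd x hx).symm

omit [Finite G] in
theorem Dc {x : G} (hx : x ∈ R) : D ≤ C1[x] := fun d hd => mem_c1.2 (h.comm d hd x hx)

omit [Finite G] in
theorem Tz : T ≤ C1[z] := h.le_of h.dh.le_c1 (h.Rc h.dh.zD)

omit [Finite G] in
theorem conj (g : G) : Prd 𝒟 (g •ᶜ T) (g •ᶜ D) (g •ᶜ R) (g * r * g⁻¹) (g * z * g⁻¹) (g * a * g⁻¹) := by
  have hi : ∀ x, (MulAut.conj g).toMonoidHom x = 1 → x = 1 := fun x e => (MulAut.conj g).injective (e.trans (map_one _).symm)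
  have hD : ∀ x, g⁻¹ * x * g ∈ 𝒟 ↔ x ∈ 𝒟 := fun x =>
    ⟨fun e => by simpa [mul_assoc] using h.sc.conj _ e g, fun e => by simpa using h.sc.conj _ e g⁻¹⟩
  refine ⟨h.sc, h.syl.conj_of_mem_normalizer (le_normalizer (mem_top g)), fun x => by
    rw [mem_map_conj, mem_map_conj, h.memD, hD], h.dh.map _ fun x _ => hi x, h.simple, h.ih, map_mono h.RT, ?_,
    fun x h1 h2 => by
      rw [show x = g * (g⁻¹ * x * g) * g⁻¹ by group, h.disj _ (mem_map_conj.1 h1) (mem_map_conj.1 h2)]; simp, ?_, fun x hx k hk => mem_map_conj.2 (by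
        simpa [mul_assoc] using h.scR _ (mem_map_conj.1 hx) (g⁻¹ * k * g) (by simpa [mul_assoc] using mem_map_conj.1 hk)),
    fun v hv hv2 => ?_, fun x hx hc => ?_⟩
  · rintro _ ⟨x, hx, rfl⟩ _ ⟨y, hy, rfl⟩
    rw [← map_mul, ← map_mul, h.comm x hx y hy]
  · rintro _ ⟨t, ht, rfl⟩
    obtain ⟨d, hd, x, hx, rfl⟩ := h.dec t ht
    exact ⟨_, mem_map_of_mem _ hd, _, mem_map_of_mem _ hx, (map_mul _ _ _).symm⟩
  · simpa [mul_assoc] using ((h.fus _ (mem_map_conj.1 hv) (by simpa using ord2 hv2 g⁻¹)).conj g).left g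
  · obtain ⟨d, hd, e⟩ := h.loc _ ((hD x).2 hx) (by rwa [c1_conj, mem_map_conj] at hc)
    exact ⟨_, conj_mem_conj hd g, by rw [← oc_c1_conj, mem_map_conj]; simpa [mul_assoc] using e⟩

omit [Finite G] in
theorem mem_of_cj {y : G} (hy : Cj z y) : y ∈ 𝒟 := by
  obtain ⟨g, rfl⟩ := hy
  exact h.sc.conj _ ((h.memD z).1 h.dh.zD).2 g

theorem exists_le {H P : Subgroup G} (hH : T ≤ H) (hP : IsPGroup 2 P) (hPH : P ≤ H) : ∃ k ∈ H, P ≤ k •ᶜ T := by
  obtain ⟨k, hk, e⟩ := (h.syl.mono hH le_top).exists_conj_le hP hPH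
  exact ⟨k⁻¹, inv_mem hk, map_conj_le_iff.1 e⟩

theorem cj {y : G} (hy : y ∈ 𝒟) (h2 : orderOf y = 2) : Cj z y := by
  obtain ⟨k, -, e⟩ := h.exists_le le_top (h.sc.two y hy) le_top
  exact (Cj.mk' k z).trans ((h.conj k).fus y (((h.conj k).memD y).2 ⟨e (mem_zpowers y), hy⟩) h2)

theorem norm {x : G} (hx : Cj z x) {P : Subgroup G} (hP : IsPGroup 2 P) (hc : P ≤ C1[x]) :
    ∃ g, g * z * g⁻¹ = x ∧ P ≤ g •ᶜ T := by
  obtain ⟨g, rfl⟩ := hx
  obtain ⟨k, hk, e⟩ := (h.conj g).exists_le (h.conj g).Tz hP hc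
  exact ⟨k * g, by rw [← conj_eq_of_c1 hk]; group, by rwa [← conj_conj]⟩

omit [Finite G] in
theorem mem_R {x g k : G} (hx : x ∈ R) (e : k * x * k⁻¹ ∈ g •ᶜ T) : k * x * k⁻¹ ∈ g •ᶜ R :=
  mem_map_conj.2 (by simpa [mul_assoc] using h.scR x hx (g⁻¹ * k) (by simpa [mul_assoc] using mem_map_conj.1 e))

omit [Finite G] in
theorem mem_R' {x g : G} (hx : x ∈ R) (e : x ∈ g •ᶜ T) : x ∈ g •ᶜ R := by
  simpa using h.mem_R (k := 1) hx (by simpa using e)

theorem cj_mul {y y' : G} (hy : Cj z y) (hy' : Cj z y') (f : Four y y') : Cj z (y * y') :=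
  h.cj (h.sc.mul _ f.isPGroup _ (left_mem_four _ _) _ (right_mem_four _ _) (h.mem_of_cj hy) (h.mem_of_cj hy')) f.hw

omit [Finite G] in
theorem cover {M : Subgroup G} (hO : O[C1[z]] ≤ M) (hD : D ≤ M) {y : G} (hy : y ∈ 𝒟) (hc : y ∈ C1[z]) : y ∈ M := by
  obtain ⟨d, hd, e⟩ := h.loc y hy hc
  simpa using mul_mem (hO e) (hD hd)

theorem p1 {v : G} (hv : v ∈ 𝒟) (hc : v ∈ C1[z]) : rs C1[z] ≤ cmo C1[z] v := rs_le_of fun k hk ho => by
  have hn := le_normalizer_piCoreOf {2}ᶜ C1[z]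
  have h2 := h.syl.isPGroup.to_le h.DT
  obtain ⟨x, hx, e⟩ := (isSylowIn_sup_of_odd h2 (not_two_dvd (odd_oc C1[z]))
    (h.dh.le_c1.trans hn)).exists_mul_mem_normalizer (g := k) (mem_normalizer_fintype fun x hx => by
      obtain ⟨o, ho, d, hd, rfl⟩ := (mem_sup_of_le_normalizer (h.dh.le_c1.trans hn)).1 (sup_comm D _ ▸ hx)
      rw [show k * (o * d) * k⁻¹ = k * o * k⁻¹ * (k * d * k⁻¹) by group]
      exact mul_mem (mem_sup_right (conj_mem_of_le_normalizer hn hk ho)) (h.cover le_sup_right le_sup_left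
        (h.sc.conj _ ((h.memD d).1 hd).2 k) (mul_mem (mul_mem hk (h.dh.le_c1 hd)) (inv_mem hk))))
  obtain ⟨o, ho', d, hd, rfl⟩ := (mem_sup_of_le_normalizer (h.dh.le_c1.trans hn)).1 (sup_comm D _ ▸ hx)
  have h3 : o⁻¹ * k ∈ N[D] := by simpa [mul_assoc] using mul_mem (le_normalizer hd) e
  have h4 : o⁻¹ * k ∈ C1[z] := mul_mem (inv_mem (oc_le _ ho')) hk
  have h5 : Odd (orderOf (o⁻¹ * k)) := odd_orderOf (odd_sup (X := zpowers k) (by rwa [Nat.card_zpowers]) (odd_oc _)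
    (zpowers_le.2 (hn hk))) (mul_mem (inv_mem (mem_sup_right ho')) (mem_sup_left (mem_zpowers k)))
  obtain ⟨d', hd', e'⟩ := h.loc v hv hc
  rw [← mul_inv_cancel_left o k]
  refine mul_mem (oc_le_cmo hc ho') ⟨h4, ?_⟩
  have := mul_mem (conj_mem_of_le_normalizer hn h4 e') (inv_mem e')
  generalize o⁻¹ * k = n at *
  rwa [show n * (v * d'⁻¹) * n⁻¹ * (v * d'⁻¹)⁻¹ = n * v * (n * d')⁻¹ * d' * v⁻¹ by group,
    dh_cent h.dh h2 h5 h3 h4 hd', show n * v * (d' * n)⁻¹ * d' * v⁻¹ = n * v * n⁻¹ * v⁻¹ by group] at this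

theorem p2 {x v k : G} (hx : Cj z x) (hv : Cj z v) (hc : v ∈ C1[x]) (hk : k ∈ rs C1[x]) :
    k * v * k⁻¹ * v⁻¹ ∈ O[C1[x]] := by
  obtain ⟨g, rfl⟩ := hx
  exact ((h.conj g).p1 (h.mem_of_cj hv) hc hk).2

theorem split {x v k : G} (hx : Cj z x) (hv : Cj z v) (hc : v ∈ C1[x]) (hk : k ∈ rs C1[x]) :
    ∃ o ∈ O[C1[x]], ∃ c ∈ C1[x] ⊓ C1[v], k = o * c := by
  obtain ⟨o, ho, c, hc', rfl⟩ := exists_mul_c1 (odd_oc _) (mul_self_of_orderOf_two (hv.ord h.dh.hz)) (h.p2 hx hv hc hk)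
  exact ⟨o, ho, c, ⟨by simpa using mul_mem (inv_mem (oc_le _ ho)) (rs_le _ hk), hc'⟩, rfl⟩

theorem p2' {y y' w k : G} (hy : Cj z y) (hy' : Cj z y') (f : Four y y') (hw : w ∈ four y y')
    (hk : k ∈ rs C1[y]) : k * w * k⁻¹ * w⁻¹ ∈ O[C1[y]] := by
  rcases f.mem_four.1 hw with rfl | rfl | rfl | rfl
  · simp
  · exact h.p2 hy hy (self_mem_c1 _) hk
  · exact h.p2 hy hy' f.v_mem hk
  · exact h.p2 hy (h.cj_mul hy hy' f) f.alt.v_mem hk

theorem ocV {y y' : G} (hy : Cj z y) (hy' : Cj z y') (hc : y' ∈ C1[y]) : O[C[four y y']] ≤ O[C1[y]] := by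
  have hle : C[four y y'] ≤ C1[y] := by rw [centralizer_four]; exact inf_le_left
  refine (le_oc_of_cover (le_rs_of_odd (oc_le _) (odd_oc _)) (odd_oc _) ((rs_le _).trans (le_normalizer_piCoreOf _ _))
    (le_rs_of_odd ((oc_le _).trans hle) (odd_oc _)) (odd_oc _) fun g hg => ?_).trans (oc_rs_le _)
  obtain ⟨o, ho, c, hc, e⟩ := h.split hy hy' hc hg
  exact ⟨o, ho, c, le_normalizer_piCoreOf _ _ (by rwa [centralizer_four]), e⟩

theorem gs_eq {x y y' : G} (hy : Cj z y) (hy' : Cj z y') (f : Four y y') (hx : four y y' ≤ C1[x]) :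
    gsTheta (four y y') x = th x y := by
  have hn : four y y' ≤ N[O[C1[x]]] := hx.trans (le_normalizer_piCoreOf _ _)
  have hy1 : four y y' ≤ C1[y] := f.le_c.trans inf_le_left
  rw [gsTheta, centralizerPPrimeCore_eq, th]
  refine le_antisymm (sup_le (commutator_le.2 fun o ho w hw => ?_) (le_sup_of_le_right (inf_le_inf_left _
    (h.ocV hy hy' f.v_mem)))) (sup_le (le_sup_of_le_left (commutator_mono le_rfl
      (zpowers_le.2 (left_mem_four _ _)))) ?_)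
  · obtain ⟨n, hn', c, hc, rfl⟩ := (copAct_inv f.tt (odd_oc _) (hn (left_mem_four _ _))).exists_commutator_mul_centralizer ho
    rw [centralizer_zpowers] at hc
    have e : ⁅n * c, w⁆ = n * (c * w * c⁻¹ * w⁻¹) * (w * n⁻¹ * w⁻¹) := by rw [commutatorElement_def]; group
    rw [e]
    refine mul_mem (mul_mem (mem_sup_left hn') (mem_sup_right ⟨?_, h.p2' hy hy' f hw
      (mem_rs hc.2 (odd_orderOf (odd_oc _) hc.1))⟩)) (mem_sup_left (conj_mem_of_mem_normalizer ?_ (inv_mem hn')))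
    · rw [mul_assoc, mul_assoc, ← mul_assoc w]
      exact mul_mem hc.1 (conj_mem_of_le_normalizer hn hw (inv_mem hc.1))
    · rw [← conj_eq_iff_mem_normalizer, conj_commutator, conj_eq_iff_mem_normalizer.2 (hn hw), conj_zpowers,
        conj_eq_of_c1 (hy1 hw)]
  · rw [← (copAct_four f (odd_of_le (odd_oc _) inf_le_left) (le_normalizer_inf hn
      (hy1.trans (le_normalizer_piCoreOf _ _)))).commutator_sup_centralizer]
    refine sup_le_sup (commutator_mono inf_le_left le_rfl) (le_inf (inf_le_left.trans inf_le_left)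
      ((inf_le_inf_right _ inf_le_right).trans (piCoreOf_inf_le _ ?_)))
    rw [centralizer_four]; exact inf_le_left

theorem W_eq {e e' v : G} (he : e ∈ R) (he' : e' ∈ R) (hv : v ∈ D) (hv2 : orderOf v = 2) : W e e' v = W e e' z := by
  rcases eq_or_ne v z with rfl | hne
  · rfl
  have f : Four z v := ⟨h.dh.hz, hv2, hne, h.dh.zc hv⟩
  have key : ∀ x ∈ R, th x v = th x z := fun x hx => by
    rw [← h.gs_eq (.refl _) (h.fus v hv hv2) f (four_le_iff.2 ⟨h.Dc hx h.dh.zD, h.Dc hx hv⟩), four_comm,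
      h.gs_eq (h.fus v hv hv2) (.refl _) f.symm (four_le_iff.2 ⟨h.Dc hx hv, h.Dc hx h.dh.zD⟩)]
  rw [W, W, key e he, key e' he', key _ (mul_mem he he')]

theorem split3 {u v g : G} (hu : u ∈ D) (hu2 : orderOf u = 2) (hv : v ∈ R) (vv : v * v = 1)
    (hg : g ∈ C1[u * v]) : ∃ o ∈ O[C1[u * v]], ∃ c ∈ C1[u * v] ⊓ C1[u], g = o * c := by
  have uu := mul_self_of_orderOf_two hu2
  have hu' : u ∈ C1[u * v] := mem_c1.2 (by rw [mul_assoc, ← h.comm u hu v hv])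
  suffices g * u * g⁻¹ * u⁻¹ ∈ O[C1[u * v]] by
    obtain ⟨o, ho, c, hc, rfl⟩ := exists_mul_c1 (odd_oc _) uu this
    exact ⟨o, ho, c, ⟨by simpa using mul_mem (inv_mem (oc_le _ ho)) hg, hc⟩, rfl⟩
  refine zstar_in hu' uu (fun g hg e => ?_) hg
  have e1 : g * u * g⁻¹ * (g * v * g⁻¹) = u * v := by rw [← conj_eq_of_c1 hg]; group
  have e2 : g * u * g⁻¹ ∈ C1[v] := by
    have := mul_mem (inv_mem (mem_c1.2 e)) (mem_c1_symm (mul_mem (mul_mem hg hu') (inv_mem hg)))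
    exact mem_c1_symm (by simpa using this)
  obtain ⟨c, e3, e4⟩ := h.norm (h.fus u hu hu2) (isPGroup_two (conj_conj_mul uu g) vv e2)
    (four_le_iff.2 ⟨mem_c1.2 e.symm, h.Rc hu hv⟩)
  have h' := h.conj c
  have m1 := (h'.memD _).2 ⟨e4 (left_mem_four _ _), h.sc.conj _ ((h.memD u).1 hu).2 g⟩
  have m2 := h.mem_R' hv (e4 (right_mem_four _ _))
  have m3 : u ∈ c •ᶜ D := e3 ▸ h'.dh.zD
  have m4 : g * v * g⁻¹ ∈ c •ᶜ R := h.mem_R hv (by
    rw [eq_inv_mul_of_mul_eq e1]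
    exact mul_mem (inv_mem (h'.DT m1)) (mul_mem (h'.DT m3) (h'.RT m2)))
  refine (inv_mul_eq_one.1 (h'.disj _ (mul_mem (inv_mem m3) m1) ?_)).symm
  rw [eq_mul_inv_of_mul_eq e1, mul_assoc u, inv_mul_cancel_left]
  exact mul_mem m2 (inv_mem m4)

omit [Finite G] in
theorem four_cj {w : G} (hw : w ∈ four z a) (h1 : w ≠ 1) : w ∈ D ∧ orderOf w = 2 ∧ Cj z w :=
  have h2 := four_le_iff.2 ⟨h.dh.zD, h.dh.ha⟩ hw
  have h3 := orderOf_two_of_mul_self h1 (h.dh.four.mul_self hw)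
  ⟨h2, h3, h.fus w h2 h3⟩

theorem sep2 {v k w : G} (hv : v ∈ four z a) (h1 : v ≠ 1) (hk : k ∈ rs C1[v]) (hw : w ∈ four z a) :
    k * w * k⁻¹ * w⁻¹ ∈ O[C1[v]] := by
  rcases eq_or_ne w 1 with rfl | w1
  · simp
  · exact h.p2 (h.four_cj hv h1).2.2 (h.four_cj hw w1).2.2 (mem_c1.2 (comm_of_isMulCommutative
      h.dh.four.isMulCommutative hw hv)) hk

theorem sep3 {u v k w : G} (hu : u ∈ four z a) (u1 : u ≠ 1) (hv : v ∈ R) (vv : v * v = 1)
    (hk : k ∈ rs C1[u * v]) (hw : w ∈ four z a) : k * w * k⁻¹ * w⁻¹ ∈ O[C1[u * v]] := by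
  obtain ⟨h1, h2, -⟩ := h.four_cj hu u1
  have hs := fun g hg => h.split3 (g := g) h1 h2 hv vv hg
  have hn := le_normalizer_piCoreOf {2}ᶜ C1[u * v]
  have hwc : w ∈ C1[u * v] := mem_c1_symm (mul_mem (mem_c1.2 (comm_of_isMulCommutative
    h.dh.four.isMulCommutative hu hw)) (h.Rc (four_le_iff.2 ⟨h.dh.zD, h.dh.ha⟩ hw) hv))
  obtain ⟨o, ho, c, hc, rfl⟩ := (mem_sup_of_le_normalizer ((rs_le _).trans (inf_le_left.trans hn))).1
    (rs_le_sup (inf_le_left.trans hn) hs hk)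
  have e : o * c * w * (o * c)⁻¹ * w⁻¹ = o * (c * w * c⁻¹ * w⁻¹) * (w * o⁻¹ * w⁻¹) := by group
  rw [e]
  refine mul_mem (mul_mem ho (le_oc_of_cover (Y := O[C1[u]] ⊓ C1[u * v]) (oc_le _) (odd_oc _) hn inf_le_right
    (odd_of_le (odd_oc _) inf_le_left) (fun g hg => ?_) ⟨h.sep2 hu u1 (rs_mono inf_le_right hc) hw, ?_⟩))
    (conj_mem_of_le_normalizer hn hwc (inv_mem ho))
  · obtain ⟨o, ho, c, hc, e⟩ := hs g hg
    exact ⟨o, ho, c, zpowers_le.1 (le_normalizer_inf (zpowers_le.2 (le_normalizer_piCoreOf _ _ hc.2))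
      (zpowers_le.2 (le_normalizer hc.1))), e⟩
  · have : c ∈ C1[u * v] := (rs_le _ hc).1
    exact Subgroup.mul_mem _ (mul_mem (mul_mem this hwc) (inv_mem this)) (inv_mem hwc)

omit [Finite G] in
theorem c1_ne {e : G} (he : e ∈ R) (e1 : e ≠ 1) : C1[e] ≠ ⊤ := fun hc => by
  have := h.simple
  have hn : (zpowers e).Normal := ⟨fun x hx g => by
    rwa [conj_eq_of_c1 (mem_c1_symm (zpowers_le.2 (mem_c1_symm (hc.ge (mem_top g))) hx))]⟩
  exact h.dh.z_ne (h.disj z h.dh.zD (zpowers_le.2 he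
    ((hn.eq_bot_or_eq_top.resolve_left (by rwa [zpowers_eq_bot])).ge (mem_top z))))

omit [Finite G] in
theorem nL (u : G) : C1[u] ≤ N[closure (𝒟 ∩ C1[u])] := by
  have : ∀ g ∈ C1[u], ∀ x ∈ closure (𝒟 ∩ C1[u]), g * x * g⁻¹ ∈ closure (𝒟 ∩ C1[u]) := fun g hg x hx =>
    (closure_le ((closure (𝒟 ∩ C1[u])).comap (MulAut.conj g).toMonoidHom)).2 (fun y hy =>
      subset_closure ⟨h.sc.conj y hy.1 g, mul_mem (mul_mem hg hy.2) (inv_mem hg)⟩) hx
  exact fun g hg x => ⟨this g hg x, fun e => by simpa [mul_assoc] using this _ (inv_mem hg) _ e⟩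

theorem iso {u v : G} (hu : u ∈ R) (u1 : u ≠ 1) (hv : v ∈ R) (vv : v * v = 1) (hc : v ∈ C1[u]) :
    closure (𝒟 ∩ C1[u]) ≤ cmo C1[u] v := fun k hk => by
  set L := closure (𝒟 ∩ C1[u])
  have hL : L ≤ C1[u] := (closure_le _).2 Set.inter_subset_right
  have hn : v ∈ N[L] := h.nL u hc
  have hd := fun {x} => mem_sup_of_le_normalizer (x := x) (zpowers_le.2 hn)
  refine ⟨hL hk, piCoreOf_le_of_le_normalizer _ hL (h.nL u) (piCoreOf_le_piCoreOf_of_le le_sup_left (fun x hx => ?_)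
    (zstar_in (mem_sup_right (mem_zpowers v)) vv (fun g hg e => ?_) (mem_sup_left hk)))⟩
  · have ho := odd_orderOf (odd_oc _) hx
    obtain ⟨k, hk, w, hw, rfl⟩ := hd.1 (oc_le _ hx)
    have := pow_mul_mem hk (zpowers_le.2 hn hw) 2
    rw [show w ^ 2 = 1 by rcases (mem_zpowers_two vv).1 hw with rfl | rfl <;> simp [pow_two, vv], inv_one, mul_one] at this
    exact mem_of_pow_mem_of_coprime (Nat.coprime_two_left.2 ho) this
  have h1 : v⁻¹ * (g * v * g⁻¹) ∈ L := by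
    obtain ⟨k, hk, w, hw, rfl⟩ := hd.1 hg
    have : v⁻¹ * (k * w * v * (k * w)⁻¹) = v⁻¹ * k * v⁻¹⁻¹ * k⁻¹ := by
      rw [mul_assoc k w, comm_of_mem_zpowers hw (mem_zpowers v)]; group
    rw [this]
    exact mul_mem (conj_mem_of_mem_normalizer (inv_mem hn) hk) (inv_mem hk)
  obtain ⟨c, -, e'⟩ := h.exists_le le_top (isPGroup_two vv (conj_conj_mul vv g) (mem_c1.2 e)) le_top
  have h' := h.conj c
  have h2 := mul_mem (inv_mem (h.mem_R' hv (e' (left_mem_four _ _)))) (h.mem_R hv (e' (right_mem_four _ _)))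
  exact (inv_mul_eq_one.1 (h'.disj _ ((h'.memD _).2 ⟨h'.RT h2, h.ih _ (h.c1_ne hu u1) _ h1
    (h'.syl.isPGroup.to_le (zpowers_le.2 (h'.RT h2)))⟩) h2)).symm

variable {e e' : G} (f : Four e e') (he : e ∈ R) (he' : e' ∈ R)
include f he he'

theorem coreSep : IsCoreSeparated (four z a) (four e e') := by
  have l1 : four z a ≤ D := four_le_iff.2 ⟨h.dh.zD, h.dh.ha⟩
  have l2 : four e e' ≤ R := four_le_iff.2 ⟨he, he'⟩
  refine ⟨elemAb h.dh.four, elemAb f, h.dh.four.card, f.card, fun e => h.dh.z_ne (h.disj _ h.dh.zD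
    (l2 (e ▸ left_mem_four _ _))), eq_bot_iff.2 fun x hx => h.disj _ (l1 hx.1) (l2 hx.2),
    fun x hx y hy => h.comm _ (l1 hx) _ (l2 hy), fun b hb b1 E hE => ?_⟩
  have hE' : E.map C1[b].subtype ≤ rs C1[b] := le_rs_of_perfect (map_subtype_le _) (by
    rw [← map_commutator, hE.isPQuasi.commutator_self])
  obtain ⟨u, hu, v, hv, e1⟩ := (mem_sup_of_le_normalizer (le_trans (fun _ hy => le_c1_iff.1 (l1.trans (h.Dc (l2 hy))))
    (centralizer_le_normalizer _))).1 hb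
  by_cases u1 : u = 1
  · rw [u1, one_mul] at e1
    subst e1
    have hL : closure (𝒟 ∩ C1[v]) ≤ C1[v] := (closure_le _).2 Set.inter_subset_right
    rcases hE.le_sup_or_commutator_le (N := (closure (𝒟 ∩ C1[v])).subgroupOf C1[v])
      (by rw [normalizer_eq_top_iff.2 ((normal_subgroupOf_iff_le_normalizer hL).2 (h.nL v))]; exact le_top) with h1 | h1
    · have h2 := map_mono (f := C1[v].subtype) h1
      rw [Subgroup.map_sup, map_subgroupOf_eq_of_le hL, ← piCoreOf_compl_singleton] at h2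
      rw [centralizerPPrimeCore_eq]
      refine Or.inr (commutator_le.2 fun k hk w hw => ?_)
      have hc := mem_c1.2 (comm_of_isMulCommutative f.isMulCommutative hw hv)
      exact (sup_le (h.iso (l2 hv) b1 (l2 hw) (f.mul_self hw) hc) (oc_le_cmo hc) (h2 hk)).2
    · have h2 := map_mono (f := C1[v].subtype) h1
      rw [map_commutator, map_subgroupOf_eq_of_le hL] at h2
      exact Or.inl ((commutator_mono le_rfl fun x hx => Subgroup.subset_closure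
        (Set.mem_inter ((h.memD x).1 (l1 hx)).2 (h.Dc (l2 hv) (l1 hx)))).trans h2)
  rw [centralizerPPrimeCore_eq]
  subst e1
  exact Or.inl (commutator_le.2 fun k hk w hw => h.sep3 hu u1 (l2 hv) (f.mul_self hv) (hE' hk) hw)

omit h he he' in
theorem gs_self {x : G} (hx : x ∈ four e e') : gsTheta (four e e') x = O[C1[x]] := by
  have l2 := le_centralizer_singleton_of_comm f.isMulCommutative hx
  refine le_antisymm ((gsTheta_le l2).trans (centralizerPPrimeCore_eq x).le) ?_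
  rw [gsTheta, centralizerPPrimeCore_eq]
  exact (copAct_four f (odd_oc _) (l2.trans (le_normalizer_piCoreOf _ _))).commutator_sup_centralizer.ge.trans
    (sup_le_sup_left (le_inf inf_le_left (piCoreOf_inf_le _ (centralizer_le_singleton hx))) _)

theorem W_spec : Odd (Nat.card (W e e' z)) ∧ ⁅O[C1[z]], four e e'⁆ ≤ W e e' z := by
  have c := h.coreSep f he he'
  have l1 : four z a ≤ D := four_le_iff.2 ⟨h.dh.zD, h.dh.ha⟩
  have l2 : four e e' ≤ R := four_le_iff.2 ⟨he, he'⟩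
  have hc : four e e' ≤ C[four z a] := fun y hy => mem_centralizer_iff.2 fun x hx => c.2.2.2.2.2.2.1 x hx y hy
  have hd := fun {x} => mem_sup_of_le_normalizer (x := x) (hc.trans (centralizer_le_normalizer _))
  have hcomm : ∀ x ∈ four z a, ∀ y ∈ four e e', ∀ x' ∈ four z a, ∀ y' ∈ four e e',
      x * y * (x' * y') = x * x' * (y * y') := fun x _ y hy x' hx' y' _ => by
    rw [mul_assoc, ← mul_assoc y, ← h.comm _ (l1 hx') _ (l2 hy)]; group
  obtain ⟨X, -, h1, h2, h3⟩ := Big.solvable_sft_two (A := four z a ⊔ four e e') ⟨isMulCommutative_of_forall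
    fun a ha b hb => by
      obtain ⟨x, hx, y, hy, rfl⟩ := hd.1 ha
      obtain ⟨x', hx', y', hy', rfl⟩ := hd.1 hb
      rw [hcomm x hx y hy x' hx' y' hy', hcomm x' hx' y' hy' x hx y hy, comm_of_isMulCommutative c.1.1 hx hx',
        comm_of_isMulCommutative c.2.1.1 hy hy'], fun a ha => by
      obtain ⟨x, hx, y, hy, rfl⟩ := hd.1 ha
      rw [pow_two, hcomm x hx y hy x hx y hy, h.dh.four.mul_self hx, f.mul_self hy, mul_one]⟩ (by
      have e1 := card_dvd_of_le (le_sup_left : four z a ≤ four z a ⊔ four e e')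
      have e2 := tr_card_lt_of_lt (left_lt_sup.2 fun e1 : four e e' ≤ four z a => f.t_ne
        (mem_bot.1 (c.2.2.2.2.2.1.le ⟨e1 (left_mem_four _ _), left_mem_four _ _⟩)))
      rw [h.dh.four.card] at e1 e2
      omega) (gs_sig c)
  have ho : Odd (Nat.card X) := by rwa [← Nat.not_even_iff_odd, even_iff_two_dvd]
  have e1 := eq_W (y := z) f ho (le_sup_right.trans h1) fun x hx x1 => (h3 x (mem_sup_right hx) x1).trans (by
    have l3 := l1.trans (h.Dc (l2 hx))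
    rw [gs_self f hx, ← h.gs_eq (.refl _) (h.fus a h.dh.ha h.dh.hao) h.dh.four l3, inf_eq_left]
    exact (gsTheta_le l3).trans (centralizerPPrimeCore_eq x).le)
  refine ⟨e1 ▸ ho, e1 ▸ le_trans ?_ ((h3 z (mem_sup_left (left_mem_four _ _)) h.dh.z_ne).ge.trans inf_le_left)⟩
  rw [gs_self h.dh.four (left_mem_four _ _), gsTheta, centralizerPPrimeCore_eq]
  exact le_inf (copAct_four f (odd_oc _) ((l2.trans (h.Rc h.dh.zD)).trans
    (le_normalizer_piCoreOf _ _))).commutator_le le_sup_left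

theorem cover' {M : Subgroup G} (h1 : W e e' z ≤ M) (h2 : C1[e] ⊓ C1[e'] ⊓ C1[z] ≤ M) {y : G} (hy : y ∈ 𝒟)
    (hc : y ∈ C1[z]) : y ∈ M := by
  refine h.cover (fun o ho => ?_) (fun d hd => h2 ⟨⟨h.Dc he hd, h.Dc he' hd⟩, h.dh.le_c1 hd⟩) hy hc
  obtain ⟨n, hn, c, hc, rfl⟩ := (copAct_four f (odd_oc _) ((four_le_iff.2 ⟨h.Rc h.dh.zD he, h.Rc h.dh.zD he'⟩).trans
    (le_normalizer_piCoreOf _ _))).exists_commutator_mul_centralizer ho
  rw [centralizer_four] at hc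
  exact mul_mem (h1 ((h.W_spec f he he').2 hn)) (h2 ⟨hc.2, oc_le _ hc.1⟩)

omit f he' in
theorem cX_top (e2 : orderOf e = 2) : cX ⊤ z = ⊤ := by
  by_contra hne
  have := h.simple
  have hT : T ≤ cX ⊤ z := h.Tz.trans (le_trans (by simp) (le_cX trivial trivial (.refl z) (self_mem_c1 z)))
  have key : ∀ k, k * z * k⁻¹ ∈ cX ⊤ z → k ∈ cX ⊤ z := fun k hk => by
    obtain ⟨m, hm, e1⟩ := h.exists_le hT (isPGroup_zpowers_two (conj_conj_mul h.dh.zz k)) (zpowers_le.2 hk)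
    have h1 : m⁻¹ * k ∈ cX ⊤ z := ⟨trivial, fun P hP hz => hP z _ (.refl z) (.mk' _ z) trivial trivial
      (h.Tz (by simpa [mul_assoc] using mem_map_conj.1 (e1 (mem_zpowers _)))) hz⟩
    simpa using mul_mem hm h1
  have hn : (closure {y | Cj z y}).Normal := ⟨fun _ hx g => (closure_le ((closure {y | Cj z y}).comap
    (MulAut.conj g).toMonoidHom)).2 (fun _ hd => subset_closure (Cj.conj hd g)) hx⟩
  have := Big.zd_pure hne (D := {y | Cj z y}) (fun _ hd => Cj.ord hd h.dh.hz) (fun _ hd => Cj.conj hd)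
    ⟨z, .refl z, hT (h.DT h.dh.zD)⟩ (by
      rintro _ ⟨k, rfl⟩ hd g hg
      simpa using mul_mem (key (g * k) (by simpa [mul_assoc] using hg)) (inv_mem (key k hd)))
    (fun x hx y hy _ _ hne hc => h.cj_mul hx hy ⟨Cj.ord hx h.dh.hz, Cj.ord hy h.dh.hz, hne.symm, hc.symm⟩) e
    ((hn.eq_bot_or_eq_top.resolve_left fun e => h.dh.z_ne (mem_bot.1 (e ▸ subset_closure (Cj.refl z)))).ge
      (mem_top e)) e2
  exact FT.ne_one_of_orderOf_two e2 (h.disj e ((h.memD e).2 ⟨h.RT he, h.mem_of_cj this⟩) he)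

omit f he' in
theorem conn (e2 : orderOf e = 2) {M : Subgroup G}
    (hM : ∀ v ∈ D, orderOf v = 2 → ∀ y ∈ 𝒟, y ∈ C1[v] → y ∈ M) : M = ⊤ := by
  have := h.simple
  have hD : D ≤ M := fun d hd => hM z h.dh.zD h.dh.hz d ((h.memD d).1 hd).2 (h.dh.le_c1 hd)
  obtain ⟨P, hP, hDP⟩ := exists_isSylowIn_ge (h.syl.isPGroup.to_le h.DT) hD
  obtain ⟨c, -, hc⟩ := h.exists_le le_top hP.isPGroup le_top
  have hc' : D = c •ᶜ D := eq_of_le_of_card_ge (fun d hd => ((h.conj c).memD d).2 ⟨hc (hDP hd), ((h.memD d).1 hd).2⟩)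
    (card_conj _ _).le
  have key : ∀ g, g * z * g⁻¹ ∈ M := fun g => ((h.cX_top he e2).ge (mem_top g)).2 (· ∈ M)
    (fun y y' h1 h2 _ _ h3 h4 => by
      obtain ⟨m, hm, e1⟩ := hP.exists_conj_le (h.sc.two y (h.mem_of_cj h1)) (zpowers_le.2 h4)
      have h5 := hM _ (hc' ▸ ((h.conj c).memD _).2 ⟨hc (e1 (conj_mem_conj (mem_zpowers y) m)),
        h.mem_of_cj (h1.conj m)⟩) ((h1.conj m).ord h.dh.hz) _ (h.mem_of_cj (h2.conj m)) (conj_mem_c1 h3 m)
      simpa [mul_assoc] using mul_mem (mul_mem (inv_mem hm) h5) hm) (hD h.dh.zD)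
  refine eq_top_iff.2 (((normalClosure_normal (s := {z})).eq_bot_or_eq_top.resolve_left fun e =>
    h.dh.z_ne (mem_bot.1 (e ▸ subset_normalClosure rfl))).ge.trans ((closure_le _).2 fun y hy => ?_))
  obtain ⟨_, rfl, hy'⟩ := Group.mem_conjugatesOfSet_iff.1 hy
  obtain ⟨g, rfl⟩ := isConj_iff.1 hy'
  exact key g

theorem conn' {M : Subgroup G} (h1 : W e e' z ≤ M) (h2 : ∀ v ∈ D, orderOf v = 2 → C1[e] ⊓ C1[e'] ⊓ C1[v] ≤ M) :
    M = ⊤ := h.conn he f.ht fun v hv hv2 y hy hc => by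
  obtain ⟨g, rfl, e1⟩ := h.norm (h.fus v hv hv2) f.isPGroup (four_le_iff.2 ⟨h.Rc hv he, h.Rc hv he'⟩)
  exact (h.conj g).cover' f (h.mem_R' he (e1 (left_mem_four _ _))) (h.mem_R' he' (e1 (right_mem_four _ _)))
    (by rwa [h.W_eq he he' hv hv2]) (h2 _ hv hv2) hy hc

omit f he he' in
theorem odd_bot {X : Subgroup G} (hn : N[X] = ⊤) (ho : Odd (Nat.card X)) : X = ⊥ :=
  have := h.simple
  (normalizer_eq_top_iff.1 hn).eq_bot_or_eq_top.resolve_right fun e => not_mem_of_odd ho h.dh.hz (e ▸ mem_top z)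

theorem false : False :=
  h.c1_ne he f.t_ne (h.conn' f he he' (by
    rw [h.odd_bot (h.conn' f he he' le_normalizer fun v hv hv2 g hg =>
      h.W_eq he he' hv hv2 ▸ mem_n_W hg.1.1 hg.1.2 hg.2) (h.W_spec f he he').1]
    exact bot_le) fun _ _ _ => inf_le_left.trans inf_le_left)

end Prd

theorem Prd.le (h : Prd 𝒟 T D R r z a) : T ≤ D := by
  refine h.le_of le_rfl (le_trans (eq_bot_iff.1 ?_) bot_le)
  by_contra hR
  obtain ⟨e, he, e1, e2, ec⟩ := h9_exists_central_mem (h.syl.isPGroup.to_le h.RT) hR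
  rw [pow_two] at e2
  have hT : T ≤ C1[e] := h.le_of (h.Dc he) fun y hy => mem_c1.2 (ec y hy).symm
  refine h.c1_ne he e1 (eq_top_iff.2 fun g hg => c1_of_conj (mul_inv_eq_one.1 (mem_bot.1 (?_ : _ ∈ ⊥))))
  rw [← h.odd_bot (X := O[⊤]) (eq_top_iff.2 (le_normalizer_piCoreOf _ _)) (odd_oc _)]
  refine zstar_in (mem_top e) e2 (fun g _ hc => ?_) hg
  by_contra hne
  obtain ⟨k, hk, e3⟩ := h.exists_le hT (isPGroup_zpowers_two (conj_conj_mul e2 g)) (zpowers_le.2 (mem_c1.2 hc.symm))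
  have f : Four e (g * e * g⁻¹) := ⟨orderOf_two_of_mul_self e1 e2, ord2 (orderOf_two_of_mul_self e1 e2) g, hne, hc.symm⟩
  exact (h.conj k).false f (by simpa [conj_eq_of_c1 hk] using conj_mem_conj he k) (h.mem_R he (e3 (mem_zpowers _)))

end Cfsg.Lib.SCQ
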