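import Cfsg.Agent.Lib.SCQ.Defs
import Cfsg.Agent.Lib.Transfer.Alperin
import Cfsg.Agent.Lib.Big.CoreKill
import Cfsg.Agent.Lib.SC.Basic
import Cfsg.Agent.Lib.DD.Klein

/-!
# The Sylow 2-subgroup splits over the strongly closed dihedral group
-/

set_option autoImplicit false

namespace Cfsg.Lib.SCQ
open Subgroup Cfsg.Lib Cfsg.Lib.FT Cfsg.Lib.GW Cfsg.Lib.BSW Cfsg.Lib.DD

variable {G : Type*} [Group G] {𝒟 : Set G} {K : G → Subgroup G} {T D : Subgroup G} {r z a : G}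

namespace Lam

variable (h : Lam 𝒟 K)
include h

theorem mul_iff {v x y : G} (hv : v * v = 1) (hx : x ∈ C1[v]) (hy : y ∈ C1[v]) :
    x * y ∈ K v ↔ (x ∈ K v ↔ y ∈ K v) := by
  by_cases h1 : x ∈ K v
  · simp [h1, mul_mem_cancel_left h1]
  by_cases h2 : y ∈ K v
  · simp [h1, h2, mul_mem_cancel_right h2]
  · simp [h1, h2, h.two v hv x hx y hy h1 h2]

theorem odd {v x : G} (hv : v * v = 1) (hx : x ∈ C1[v]) (ho : Odd (orderOf x)) : x ∈ K v := by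
  obtain ⟨k, hk⟩ := ho
  have h1 : x * x ∈ K v := (h.mul_iff hv hx hx).2 Iff.rfl
  have h2 : (x * x) ^ (k + 1) = x := by
    rw [← pow_two, ← pow_mul, show 2 * (k + 1) = 2 * k + 1 + 1 by ring, pow_succ, ← hk, pow_orderOf_eq_one, one_mul]
  exact h2 ▸ pow_mem h1 _

theorem mem_Ct_iff {X : Subgroup G} {x : G} : x ∈ Ct K X ↔ X ≤ K x :=
  mem_Ct.trans ⟨fun e u hu => h.symm _ _ (e u hu), fun e u hu => h.symm _ _ (e hu)⟩

theorem Ct_le (X : Subgroup G) : Ct K X ≤ C[X] := fun _ hx =>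
  le_c1_iff.1 ((h.mem_Ct_iff.1 hx).trans (h.le _))

theorem conj_Ct {X : Subgroup G} {x : G} (hx : x ∈ Ct K X) (g : G) : g * x * g⁻¹ ∈ Ct K (g •ᶜ X) := by
  refine mem_Ct.2 ?_
  rintro _ ⟨u, hu, rfl⟩
  exact h.conj _ _ g (mem_Ct.1 hx u hu)

theorem norm_Ct {X : Subgroup G} {x g : G} (hg : g ∈ N[X]) (hx : x ∈ Ct K X) : g * x * g⁻¹ ∈ Ct K X := by
  simpa only [conj_eq_iff_mem_normalizer.2 hg] using h.conj_Ct hx g

theorem not_mem {v w : G} (f : Four v w) (hv : v ∈ 𝒟) (hw : w ∈ 𝒟) : w ∉ K v := fun e =>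
  f.ne (h.ne v hv w hw f.ht f.hv e)

/-- `C(V) = V × Ct V` -/
theorem dec_four {v w x : G} (f : Four v w) (hv : v ∈ 𝒟) (hw : w ∈ 𝒟) (hx : x ∈ C1[v] ⊓ C1[w]) :
    ∃ u ∈ four v w, u * x ∈ Ct K (four v w) := by
  have key : ∀ y, y ∈ K v → y ∈ K w → y ∈ Ct K (four v w) := fun y h1 h2 =>
    h.mem_Ct_iff.2 (four_le_iff.2 ⟨h.symm _ _ h1, h.symm _ _ h2⟩)
  have n1 := h.not_mem f hv hw
  have n2 := h.not_mem f.symm hw hv
  by_cases h1 : x ∈ K v <;> by_cases h2 : x ∈ K w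
  · exact ⟨1, one_mem _, by rw [one_mul]; exact key x h1 h2⟩
  · exact ⟨v, left_mem_four _ _, key _ (mul_mem (h.self v) h1) (h.two w f.vv _ f.t_mem _ hx.2 n2 h2)⟩
  · exact ⟨w, right_mem_four _ _, key _ (h.two v f.tt _ f.v_mem _ hx.1 n1 h1) (mul_mem (h.self w) h2)⟩
  · refine ⟨v * w, mul_mem (left_mem_four _ _) (right_mem_four _ _), key _ ?_ ?_⟩
    · rw [mul_assoc]
      exact mul_mem (h.self v) (h.two v f.tt _ f.v_mem _ hx.1 n1 h1)
    · rw [← f.comm, mul_assoc]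
      exact mul_mem (h.self w) (h.two w f.vv _ f.t_mem _ hx.2 n2 h2)

end Lam

variable [Finite G]

theorem eq_one_of_odd {X : Subgroup G} (hX : Odd (Nat.card X)) {x : G} (hx : x ∈ X) (h2 : IsPGroup 2 (zpowers x)) :
    x = 1 := by
  obtain ⟨k, hk⟩ := h2.exists_card_eq
  have := odd_orderOf hX hx
  rw [← Nat.card_zpowers, hk] at this
  rcases k with _ | k
  · rwa [pow_zero, card_eq_one, zpowers_eq_bot] at hk
  · exact absurd this (by simp [pow_succ, parity_simps])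

/-- 2-elements congruent modulo a group of odd order are conjugate -/
theorem conj_of_odd {X : Subgroup G} (hX : Odd (Nat.card X)) {x y : G} (hx : IsPGroup 2 (zpowers x))
    (hy : IsPGroup 2 (zpowers y)) (hn : x ∈ N[X]) (e : y * x⁻¹ ∈ X) : ∃ o ∈ X, o * y * o⁻¹ = x := by
  have hn' := zpowers_le.2 hn
  obtain ⟨k, hk, h1⟩ := (isSylowIn_sup_of_odd hx (not_two_dvd hX) hn').exists_conj_le hy (zpowers_le.2 (by
    simpa using mul_mem (mem_sup_right e : _ ∈ zpowers x ⊔ X) (mem_sup_left (mem_zpowers x))))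
  obtain ⟨s, hs, o, ho, rfl⟩ := (mem_sup_of_le_normalizer' hn').1 hk
  have h2 : o * y * o⁻¹ ∈ zpowers x := by
    have := mul_mem (mul_mem (inv_mem hs) (h1 (conj_mem_conj (mem_zpowers y) _))) hs
    simpa [mul_assoc] using this
  refine ⟨o, ho, eq_of_mul_inv_eq_one (eq_one_of_odd hX ?_ (hx.to_le (zpowers_le.2 (mul_mem h2 (inv_mem (mem_zpowers x))))))⟩
  simpa [mul_assoc] using mul_mem (mul_mem ho e) (conj_mem_of_mem_normalizer hn (inv_mem ho))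

/-- the outer automorphism group of a non-abelian dihedral 2-group is abelian -/
theorem dh_comm (h : Dh D r z a) (hr : r * r ≠ 1) {p q : G} (hp : p ∈ N[D]) (hq : q ∈ N[D]) :
    p * q * p⁻¹ * q⁻¹ ∈ D ⊔ C[D] := by
  have k1 : ∀ p ∈ N[D], ∃ i : ℤ, p * r * p⁻¹ = r ^ (2 * i + 1) := fun p hp => by
    have hn := h.normalizer_le hr hp
    obtain ⟨i, hi⟩ := conj_mem_of_mem_normalizer hn (mem_zpowers r)
    obtain ⟨m, hm⟩ := h.zr
    have e := h.eq_z (conj_mem_of_mem_normalizer hn h.zr) (conj_conj_mul h.zz p) (BSW.ne_one_of_orderOf_two (ord2 h.hz p))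
    rcases Int.even_or_odd' i with ⟨j, rfl | rfl⟩
    · refine absurd ?_ h.z_ne
      simp only at hi hm
      rw [← e, ← hm, ← conj_zpow, ← hi, ← zpow_mul, mul_comm, zpow_mul, hm, zpow_mul, zpow_two, h.zz, one_zpow]
    · exact ⟨j, hi.symm⟩
  have k2 : ∀ p ∈ N[D], p * a * p⁻¹ ∉ zpowers r ∧ ∃ b : ℤ, p * a * p⁻¹ = r ^ b * a := fun p hp => by
    have h1 : p * a * p⁻¹ ∉ zpowers r := fun e => h.ar (by
      simpa [mul_assoc] using conj_mem_of_mem_normalizer' (h.normalizer_le hr hp) e)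
    obtain ⟨b, hb⟩ := h.mul _ (conj_mem_of_mem_normalizer hp h.ha) a h.ha h1 h.ar
    exact ⟨h1, b, by simp only at hb; rw [hb, mul_assoc _ a a, h.aa, mul_one]⟩
  obtain ⟨i, hi⟩ := k1 p hp
  obtain ⟨j, hj⟩ := k1 q hq
  obtain ⟨-, b, hb⟩ := k2 p hp
  obtain ⟨-, c, hc⟩ := k2 q hq
  have e1 : ∀ {p q : G} {i j : ℤ}, p * r * p⁻¹ = r ^ i → q * r * q⁻¹ = r ^ j → p * q * r * (p * q)⁻¹ = r ^ (i * j) :=
    fun {p q i j} hi hj => by rw [zpow_mul, ← hi, conj_zpow, ← hj]; group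
  have e2 : ∀ {p q : G} {i b c : ℤ}, p * r * p⁻¹ = r ^ i → p * a * p⁻¹ = r ^ b * a → q * a * q⁻¹ = r ^ c * a →
      p * q * a * (p * q)⁻¹ = r ^ (i * c + b) * a := fun {p q i b c} hi hb hc => by
    rw [zpow_add, mul_assoc (r ^ (i * c)), ← hb, zpow_mul, ← hi, conj_zpow]
    calc p * q * a * (p * q)⁻¹ = p * (q * a * q⁻¹) * p⁻¹ := by group
      _ = _ := by rw [hc]; group
  set s := r ^ (i * c - j * b)
  have hs : s ∈ zpowers r := zpow_mem (mem_zpowers r) _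
  have hqp := mul_mem hq hp
  have e3 : (q * p)⁻¹ * s⁻¹ * (p * q) ∈ C[D] := by
    refine le_c1_iff.1 (h.le_of (mem_c1_symm (c1_of_conj ?_)) (mem_c1_symm (c1_of_conj ?_)))
    · have := h.inv (conj_mem_of_mem_normalizer hqp h.ha) (k2 _ hqp).1 hs
      calc _ = (q * p)⁻¹ * s⁻¹ * (p * q * a * (p * q)⁻¹) * s * (q * p) := by group
        _ = (q * p)⁻¹ * s * (q * p * a * (q * p)⁻¹) * s * (q * p) := by
          rw [e2 hi hb hc, e2 hj hc hb]
          have : s⁻¹ * r ^ ((2 * i + 1) * c + b) = s * r ^ ((2 * j + 1) * b + c) := by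
            simp only [s, ← zpow_neg, ← zpow_add]; congr 1; ring
          simp only [mul_assoc, mul_right_inj]
          rw [← mul_assoc, this, mul_assoc]
        _ = (q * p)⁻¹ * s * (q * p * a * (q * p)⁻¹ * s * (q * p * a * (q * p)⁻¹)⁻¹) * (q * p) * a := by group
        _ = a := by rw [this]; group
    · calc _ = (q * p)⁻¹ * (s⁻¹ * (p * q * r * (p * q)⁻¹) * s) * (q * p) := by group
        _ = (q * p)⁻¹ * (q * p * r * (q * p)⁻¹) * (q * p) := by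
          rw [e1 hi hj, e1 hj hi, mul_comm (2 * j + 1), mul_assoc s⁻¹, comm_of_mem_zpowers (zpow_mem (mem_zpowers r) _) hs,
            inv_mul_cancel_left]
        _ = r := by group
  have e4 := conj_mem_of_mem_normalizer (normalizer_le_normalizer_centralizer _ hqp) e3
  simpa [mul_assoc] using mul_mem (mem_sup_left (h.le hs) : s ∈ D ⊔ C[D]) (mem_sup_right e4)

namespace Ctx

variable (h : Ctx 𝒟 K T D r z a)
include h

omit [Finite G] in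
theorem DT : D ≤ T := fun x hx => ((h.memD x).1 hx).1

omit [Finite G] in
theorem Dm {x : G} (hx : x ∈ D) : x ∈ 𝒟 := ((h.memD x).1 hx).2

omit [Finite G] in
theorem pD : IsPGroup 2 D := h.syl.isPGroup.to_le h.DT

omit [Finite G] in
theorem TN : T ≤ N[D] := le_normalizer_iff.2 fun t ht x hx =>
  (h.memD _).2 ⟨mul_mem (mul_mem ht (h.DT hx)) (inv_mem ht), h.sc.conj _ (h.Dm hx) t⟩

omit [Finite G] in
theorem conj (g : G) : Ctx 𝒟 K (g •ᶜ T) (g •ᶜ D) (g * r * g⁻¹) (g * z * g⁻¹) (g * a * g⁻¹) :=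
  ⟨h.sc, h.lam, h.syl.conj_of_mem_normalizer (le_normalizer (mem_top g)), fun x => by
    rw [mem_map_conj, mem_map_conj, h.memD]
    exact and_congr_right fun _ => ⟨fun e => by simpa [mul_assoc] using h.sc.conj _ e g,
      fun e => by simpa using h.sc.conj _ e g⁻¹⟩,
    h.dh.map _ fun x _ e => (MulAut.conj g).injective (e.trans (map_one _).symm),
    c1_conj g z ▸ map_mono h.Tz, h.simple, h.ih⟩

theorem mem_of {P : Subgroup G} (hP : IsPGroup 2 P) (hD : D ≤ P) {x : G} (hx : x ∈ P) (hx' : x ∈ 𝒟) : x ∈ D := by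
  obtain ⟨g, -, e⟩ := h.syl.exists_conj_le hP le_top
  have h1 : g •ᶜ D = D := eq_of_le_of_card_ge (fun y hy => (h.memD y).2 ⟨e (map_mono hD hy), (h.conj g).Dm hy⟩)
    (card_conj _ _).ge
  have := (h.memD _).2 ⟨e (conj_mem_conj hx g), h.sc.conj _ hx' g⟩
  rw [← h1, mem_map_conj] at this
  simpa [mul_assoc] using this

theorem not_comm : ¬ IsMulCommutative G := fun hc => by
  have := h.simple
  have hn : (zpowers z).Normal := ⟨fun x hx g => by rwa [hc.is_comm.comm g x, mul_inv_cancel_right]⟩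
  rcases hn.eq_bot_or_eq_top with e | e
  · exact h.dh.z_ne (zpowers_eq_bot.1 e)
  · exact h.dh.ar (zpowers_le.2 h.dh.zr (e ▸ mem_top a))

theorem idx (N : Subgroup G) : N.index ≠ 2 :=
  have := h.simple
  Big.index_ne_two_of_simple h.not_comm N

theorem res : pResidual 2 G = ⊤ := pResidual_two_eq_top_iff.2 h.idx

theorem c1_ne {x : G} (hx : x ≠ 1) : C1[x] ≠ ⊤ := fun e => by
  have := h.simple
  rcases (inferInstance : (center G).Normal).eq_bot_or_eq_top with c | c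
  · exact hx (mem_bot.1 (c ▸ mem_center_iff.2 fun g => mem_c1.1 (e ▸ mem_top g)))
  · exact h.not_comm ⟨⟨fun x y => mem_center_iff.1 (c ▸ mem_top y) x⟩⟩

theorem n_ne {t v : G} (f : Four t v) : N[four t v] ≠ ⊤ := fun e => by
  have := h.simple
  rcases (normalizer_eq_top_iff.1 e).eq_bot_or_eq_top with c | c
  · exact f.t_ne (mem_bot.1 (c ▸ left_mem_four t v))
  · exact h.c1_ne f.t_ne (eq_top_iff.2 (c ▸ f.le_c.trans inf_le_left))

omit [Finite G] in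
theorem not_K {x : G} (hx : x ∈ D) (hx' : x ∉ zpowers r) : x ∉ K z :=
  h.lam.not_mem (h.dh.with' hx hx').four (h.Dm h.dh.zD) (h.Dm hx)

omit [Finite G] in
theorem not_K' {x : G} (hx : x ∈ D) (hx' : x ∉ zpowers r) : z ∉ K x := fun e => h.not_K hx hx' (h.lam.symm _ _ e)

omit h in
theorem norm_cl (hs : SCs 𝒟) (H : Subgroup G) : H ≤ N[closure (𝒟 ∩ H)] := le_normalizer_closure_iff.2
  fun g hg x hx => subset_closure ⟨hs.conj _ hx.1 g, mul_mem (mul_mem hg hx.2) (inv_mem hg)⟩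

omit h [Finite G] in
theorem cl_le (H : Subgroup G) : closure (𝒟 ∩ H) ≤ H := (closure_le _).2 Set.inter_subset_right

omit [Finite G] in
theorem le_cl {H : Subgroup G} (hH : D ≤ H) : D ≤ closure (𝒟 ∩ H) := fun _ hx => subset_closure ⟨h.Dm hx, hH hx⟩

theorem syl_cl {H : Subgroup G} (hH : D ≤ H) (ht : H ≠ ⊤) : IsSylowIn 2 D (closure (𝒟 ∩ H)) :=
  ⟨h.le_cl hH, h.pD, fun Q hQ h1 h2 => le_antisymm (fun x hx => h.mem_of hQ h2 hx
    (h.ih H ht x (h1 hx) (hQ.to_le (zpowers_le.2 hx)))) h2⟩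

theorem loc {x : G} (hx : x ∈ closure (𝒟 ∩ C1[z])) : ∃ d ∈ D, x * d⁻¹ ∈ O[C1[z]] := by
  set L := closure (𝒟 ∩ C1[z])
  have hn : C1[z] ≤ N[L ⊓ K z] := le_normalizer_inf (norm_cl h.sc _) (le_normalizer_iff.2 fun g hg y hy => by
    simpa only [conj_eq_of_c1 hg] using h.lam.conj _ _ g hy)
  have hs := (h.syl_cl h.dh.le_c1 (h.c1_ne h.dh.z_ne)).inf_of_le_normalizer inf_le_left ((cl_le _).trans hn)
  have e : D ⊓ (L ⊓ K z) = zpowers r := le_antisymm (fun y hy => by_contra fun c => h.not_K hy.1 c hy.2.2)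
    (zpowers_le.2 ⟨h.dh.mem, h.le_cl h.dh.le_c1 h.dh.mem, by
      simpa [← mul_assoc, h.dh.aa] using h.lam.two z h.dh.zz _ (h.dh.le_c1 h.dh.ha) _ (h.dh.le_c1 h.dh.alt.ha)
        (h.not_K h.dh.ha h.dh.ar) (h.not_K h.dh.alt.ha h.dh.alt.ar)⟩)
  rw [e] at hs
  obtain ⟨P, hP⟩ := hs.exists_sylow'
  have ho : rs (L ⊓ K z) ≤ O[C1[z]] := le_oc ((rs_le _).trans (inf_le_left.trans (cl_le _))) (hn.trans (rs_norm _))
    (odd_map _ (by
      rw [← Nat.not_even_iff_odd, even_iff_two_dvd, ← hasNormalPComplement_iff_not_dvd]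
      exact hasNormalPComplement_two_of_isCyclic P (hP ▸ isCyclic_of_surjective _
        (subgroupOfEquivOfLe hs.le).symm.surjective)))
  by_cases c : x ∈ K z
  · obtain ⟨k, hk, s, hs', rfl⟩ := exists_rs_mul hs ⟨hx, c⟩
    exact ⟨s, h.dh.le hs', by simpa using ho hk⟩
  · obtain ⟨k, hk, s, hs', e⟩ := exists_rs_mul hs ⟨mul_mem hx (h.le_cl h.dh.le_c1 h.dh.ha),
      h.lam.two z h.dh.zz _ (cl_le _ hx) _ (h.dh.le_c1 h.dh.ha) c (h.not_K h.dh.ha h.dh.ar)⟩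
    exact ⟨s * a⁻¹, mul_mem (h.dh.le hs') (inv_mem h.dh.ha), by
      rw [mul_inv_rev, inv_inv, ← mul_assoc, e, mul_inv_cancel_right]; exact ho hk⟩

theorem split {c : G} (hc : c ∈ C1[z]) : ∃ o ∈ O[C1[z]], ∃ n ∈ N[D], c = o * n := by
  obtain ⟨k, hk, e⟩ := (h.syl_cl h.dh.le_c1 (h.c1_ne h.dh.z_ne)).exists_mul_mem_normalizer (norm_cl h.sc _ hc)
  obtain ⟨d, hd, ho⟩ := h.loc hk
  exact ⟨_, ho, d * (k⁻¹ * c), mul_mem (le_normalizer hd) e, by group⟩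

theorem disjO {x : G} (hx : x ∈ D) (ho : x ∈ O[C1[z]]) : x = 1 :=
  eq_one_of_odd (odd_oc _) ho (h.pD.to_le (zpowers_le.2 hx))

theorem odd_Ct {o : G} (ho : o ∈ O[C1[z]]) (hn : o ∈ N[D]) : o ∈ Ct K D :=
  h.lam.mem_Ct_iff.2 (h.dh.le_of_invs fun u hu hu2 => h.lam.symm _ _ (h.lam.odd (mul_self_of_orderOf_two hu2)
    (c1_of_conj (eq_of_mul_inv_eq_one (h.disjO (mul_mem (conj_mem_of_mem_normalizer hn hu) (inv_mem hu)) (by
      simpa [mul_assoc] using mul_mem ho (conj_mem_of_mem_normalizer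
        (le_normalizer_piCoreOf _ _ (h.dh.le_c1 hu)) (inv_mem ho)))))) (odd_orderOf (odd_oc _) ho)))

omit [Finite G] in
theorem norm_N1 {n x : G} (hn : n ∈ N[D]) (hx : x ∈ D ⊔ Ct K D) : n * x * n⁻¹ ∈ D ⊔ Ct K D := by
  have := conj_mem_conj hx n
  rw [conj_sup, conj_eq_iff_mem_normalizer.2 hn] at this
  refine sup_le_sup_left ?_ D this
  rintro _ ⟨y, hy, rfl⟩
  exact h.lam.norm_Ct hn hy

theorem psi_c {c x : G} (hc : c ∈ C1[z]) (hx : x ∈ T) (hy : c * x * c⁻¹ ∈ T) :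
    ∃ n ∈ N[D], c * x * c⁻¹ * (n * x * n⁻¹)⁻¹ ∈ Ct K D := by
  obtain ⟨o, ho, n, hn, rfl⟩ := h.split hc
  have h1 : n ∈ C1[z] := by simpa using mul_mem (inv_mem (oc_le _ ho)) hc
  refine ⟨n, hn, h.odd_Ct ?_ (mul_mem (h.TN hy) (inv_mem (mul_mem (mul_mem hn (h.TN hx)) (inv_mem hn))))⟩
  simpa [mul_assoc] using mul_mem ho (conj_mem_of_mem_normalizer (le_normalizer_piCoreOf _ _
    (mul_mem (mul_mem h1 (h.Tz hx)) (inv_mem h1))) (inv_mem ho))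

theorem psi_four (hr : r * r ≠ 1) {g x : G} (hw : g * z * g⁻¹ ∈ D) (hne : g * z * g⁻¹ ≠ z)
    (hg : g ∈ N[four z (g * z * g⁻¹)]) (hx : x ∈ T) (hx' : x ∈ Ct K (four z (g * z * g⁻¹))) (hy : g * x * g⁻¹ ∈ T) :
    ∃ n ∈ N[D], g * x * g⁻¹ * (n * x * n⁻¹)⁻¹ ∈ Ct K D := by
  have ww := conj_conj_mul h.dh.zz g
  have w1 := BSW.ne_one_of_orderOf_two (ord2 h.dh.hz g)
  have hw' := h.dh.not_mem ww w1 hne
  have f := (h.dh.with' hw hw').four
  obtain ⟨d, hd, e⟩ := h.dh.exists_w h.pD hr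
  have e1 := h.dh.conj_w hd e hw hw'
  have e2 : d * z * d⁻¹ = z := conj_eq_of_c1 (h.dh.le_c1 (h.dh.le hd))
  generalize hwz : g * z * g⁻¹ = w at *
  have hV := mul_mem (left_mem_four z w) (right_mem_four z w)
  have hdN : d ∈ N[four z w] := Four.mem_normalizer (e2.symm ▸ left_mem_four _ _) (e1.symm ▸ hV)
  have e3 : g * d * g⁻¹ * w * (g * d * g⁻¹)⁻¹ = w := by
    calc _ = g * (d * (g⁻¹ * w * g) * d⁻¹) * g⁻¹ := by group
      _ = w := by rw [← hwz, show g⁻¹ * (g * z * g⁻¹) * g = z by group, e2]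
  have e4 : g * d * g⁻¹ * (g * w * g⁻¹) * (g * d * g⁻¹)⁻¹ = w * (g * w * g⁻¹) := by
    calc _ = g * (d * w * d⁻¹) * g⁻¹ := by group
      _ = _ := by rw [e1, conj_mul', hwz]
  have e5 : g * d * g⁻¹ * z * (g * d * g⁻¹)⁻¹ = z * w := by
    rcases f.mem_four.1 (conj_mem_of_mem_normalizer hg (right_mem_four z w)) with c | c | c | c
    · exact absurd c (f.conj g).v_ne
    · rw [c] at e4; rw [e4, f.comm]
    · exact absurd (c.trans hwz.symm) (f.conj g).ne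
    · rw [c, conj_mul', e3, f.vw] at e4
      exact eq_mul_of_mul_inv_eq (by rwa [f.v_inv])
  have hdL : d ∈ closure (𝒟 ∩ N[four z w]) := subset_closure ⟨h.Dm (h.dh.le hd), hdN⟩
  have hl : d * (g * d * g⁻¹) ∈ closure (𝒟 ∩ N[four z w]) :=
    mul_mem hdL (conj_mem_of_le_normalizer (norm_cl h.sc _) hg hdL)
  have e6 : d * (g * d * g⁻¹) * z * (d * (g * d * g⁻¹))⁻¹ = w := by
    calc _ = d * (g * d * g⁻¹ * z * (g * d * g⁻¹)⁻¹) * d⁻¹ := by group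
      _ = w := by rw [e5, conj_mul', e1, e2, f.tw]
  generalize d * (g * d * g⁻¹) = l at hl e6
  have hlN := cl_le _ hl
  have hy' := h.lam.norm_Ct hg hx'
  have hyN := centralizer_le_normalizer _ (h.lam.Ct_le _ hy')
  have hX : Odd (Nat.card ↥(closure (𝒟 ∩ N[four z w]) ⊓ Ct K (four z w))) := odd_of_forall fun t ht ht2 => by
    have h1 := h.ih _ (h.n_ne f) t ht.1 (isPGroup_zpowers_of_orderOf ht2)
    exact f.ne ((h.lam.ne w (h.Dm hw) t h1 f.hv ht2 (mem_Ct.1 ht.2 _ (right_mem_four _ _))).symm.trans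
      (h.lam.ne z (h.Dm h.dh.zD) t h1 f.ht ht2 (mem_Ct.1 ht.2 _ (left_mem_four _ _))))
  have p1 : IsPGroup 2 (zpowers (g * x * g⁻¹)) := h.syl.isPGroup.to_le (zpowers_le.2 hy)
  obtain ⟨o, ho, e7⟩ := conj_of_odd hX p1 (y := l⁻¹ * (g * x * g⁻¹) * l⁻¹⁻¹) (by rw [← conj_zpowers]; exact p1.map _)
    (zpowers_le.1 (le_normalizer_inf (zpowers_le.2 (norm_cl h.sc _ hyN)) (zpowers_le.2 (le_normalizer hy'))))
    ⟨by simpa [mul_assoc] using mul_mem (inv_mem hl) (conj_mem_of_le_normalizer (norm_cl h.sc _) hyN hl),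
      Subgroup.mul_mem _ (h.lam.norm_Ct (inv_mem hlN) hy') (inv_mem hy')⟩
  have e8 : o * (l⁻¹ * g) * x * (o * (l⁻¹ * g))⁻¹ = g * x * g⁻¹ := by rw [← e7]; group
  have := h.psi_c (c := o * (l⁻¹ * g)) (mul_mem (h.lam.le _ (mem_Ct.1 ho.2 _ (left_mem_four _ _))) (c1_of_conj (by
    calc _ = l⁻¹ * (g * z * g⁻¹) * l := by group
      _ = z := by rw [hwz, ← e6]; group))) hx (e8 ▸ hy)
  rwa [e8] at this

theorem psi {x g : G} (hx : x ∈ T) (hy : g * x * g⁻¹ ∈ T) :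
    ∃ n ∈ N[D], g * x * g⁻¹ * (n * x * n⁻¹)⁻¹ ∈ D ⊔ Ct K D := by
  obtain ⟨P, rfl⟩ := h.syl.exists_sylow_top
  refine alperin_fusion P (fun Q g => ∀ x ∈ Q, ∃ n ∈ N[D], g * x * g⁻¹ * (n * x * n⁻¹)⁻¹ ∈ D ⊔ Ct K D)
    (fun _ _ _ e H x hx => H x (e hx)) (fun Q g k H H' x hx => ?_) (fun Q c hc x hx => ⟨1, one_mem _, ?_⟩)
    (fun Q hQ hs hrad g hg x hx => ?_) (zpowers x) (zpowers_le.2 hx) g (by rwa [conj_zpowers, zpowers_le]) x
    (mem_zpowers x)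
  · obtain ⟨n, hn, e⟩ := H x hx
    obtain ⟨m, hm, e'⟩ := H' _ (conj_mem_conj hx g)
    exact ⟨m * n, mul_mem hm hn, by simpa [mul_assoc] using mul_mem e' (h.norm_N1 hm e)⟩
  · rw [← mem_centralizer_iff.1 hc x hx]; simp
  have hz : z ∈ Q := hrad.centric hQ hs ⟨h.DT h.dh.zD, le_c1_iff.1 (hQ.trans h.Tz)⟩
  have hm := fun {y : G} (hy : y ∈ Q) => conj_mem_of_mem_normalizer hg hy
  by_cases hne : g * z * g⁻¹ = z
  · obtain ⟨n, hn, e⟩ := h.psi_c (c1_of_conj hne) (hQ hx) (hQ (hm hx))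
    exact ⟨n, hn, mem_sup_right e⟩
  have hD : ∀ y ∈ Q, y ∈ D → g * y * g⁻¹ ∈ D := fun y hy hy' => (h.memD _).2 ⟨hQ (hm hy), h.sc.conj _ (h.Dm hy') g⟩
  have hw := hD z hz h.dh.zD
  have d' := h.dh.with' hw (h.dh.not_mem (conj_conj_mul h.dh.zz g) (BSW.ne_one_of_orderOf_two (ord2 h.dh.hz g)) hne)
  have hc : Q ≤ C1[g * z * g⁻¹] := fun y hy => by
    simpa [mul_assoc] using conj_mem_c1 (h.Tz (hQ (conj_mem_of_mem_normalizer' hg hy))) g
  have hgN : g ∈ N[four z (g * z * g⁻¹)] := Four.mem_normalizer (right_mem_four _ _)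
    (d'.four.mem_four.2 (d'.cent (hD _ (hm hz) hw) (mem_c1.1 (hc (hm (hm hz))))))
  by_cases hr : r * r = 1
  · obtain rfl := h.dh.r_eq hr
    exact ⟨g, d'.eq_four ▸ hgN, by simp⟩
  obtain ⟨u, hu, e⟩ := h.lam.dec_four d'.four (h.Dm h.dh.zD) (h.Dm hw) ⟨h.Tz (hQ hx), hc hx⟩
  have hux := mul_mem (four_le_iff.2 ⟨hz, hm hz⟩ hu) hx
  have hl := four_le_iff.2 ⟨h.dh.zD, hw⟩
  obtain ⟨n, hn, e'⟩ := h.psi_four hr hw hne hgN (hQ hux) e (hQ (hm hux))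
  refine ⟨n, hn, ?_⟩
  simpa [mul_assoc] using mul_mem (mul_mem (mem_sup_left (inv_mem (hl (conj_mem_of_mem_normalizer hgN hu))) :
    _ ∈ D ⊔ Ct K D) (mem_sup_right e')) (mem_sup_left (conj_mem_of_mem_normalizer hn (hl hu)))

theorem le_of_psi {M : Subgroup G} (h1 : D ⊔ Ct K D ≤ M)
    (h2 : ∀ x ∈ T, ∀ n ∈ N[D], ∀ m ∈ D ⊔ Ct K D, m * (n * x * n⁻¹) ∈ T → x⁻¹ * (n * x * n⁻¹) ∈ M) : T ≤ M := by
  obtain ⟨P, rfl⟩ := h.syl.exists_sylow_top
  refine sylow_le_of_fusion h.res P M fun x hx g hy => ?_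
  obtain ⟨n, hn, e⟩ := h.psi hx hy
  simpa [mul_assoc] using mul_mem (h1 (h.norm_N1 (inv_mem (h.TN hx)) e)) (h2 x hx n hn _ e (by rwa [inv_mul_cancel_right]))

theorem le_N1 : T ≤ D ⊔ Ct K D := by
  have hC : ∀ n ∈ N[D], ∀ x ∈ C[D], n * x * n⁻¹ ∈ C[D] := fun n hn x hx =>
    conj_mem_of_mem_normalizer (normalizer_le_normalizer_centralizer _ hn) hx
  by_cases hr : r * r = 1
  · obtain rfl := h.dh.r_eq hr
    have f := h.dh.four
    have e := h.dh.eq_four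
    have h1 : D ⊔ Ct K D ≤ C[D] := sup_le (e ▸ f.le_centralizer) (h.lam.Ct_le _)
    have h2 : ∀ x ∈ N[D], x ∈ C1[r] → x ∉ C[D] → x * a * x⁻¹ = r * a := fun x hx hx' c =>
      (f.conj_v (e ▸ hx) hx').resolve_left fun c' => c (by rw [e, centralizer_four]; exact ⟨hx', c1_of_conj c'⟩)
    refine (h.le_of_psi h1 fun x hx n hn m hm hy => ?_).trans fun x hx => ?_
    · by_cases c : x ∈ C[D]
      · exact mul_mem (inv_mem c) (hC n hn x c)
      have h3 : n * x * n⁻¹ ∈ C1[r] := by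
        simpa using mul_mem (inv_mem (centralizer_le_singleton h.dh.zD (h1 hm))) (h.Tz hy)
      have h4 := h2 _ (mul_mem (mul_mem hn (h.TN hx)) (inv_mem hn)) h3 fun c' => c (by
        simpa [mul_assoc] using hC _ (inv_mem hn) _ c')
      rw [← h2 x (h.TN hx) (h.Tz hx) c] at h4
      rw [e, centralizer_four]
      refine ⟨Subgroup.mul_mem _ (inv_mem (h.Tz hx)) h3, c1_of_conj ?_⟩
      calc _ = x⁻¹ * (n * x * n⁻¹ * a * (n * x * n⁻¹)⁻¹) * x := by group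
        _ = a := by rw [h4]; group
    · rw [e, centralizer_four] at hx
      obtain ⟨u, hu, c⟩ := h.lam.dec_four f (h.Dm h.dh.zD) (h.Dm h.dh.ha) hx
      rw [← e] at hu c
      simpa using mul_mem (mem_sup_left (inv_mem hu) : _ ∈ D ⊔ Ct K D) (mem_sup_right c)
  have h1 : T ≤ D ⊔ C[D] := h.le_of_psi (sup_le_sup_left (h.lam.Ct_le _) _) fun x hx n hn _ _ _ => by
    simpa [mul_assoc] using dh_comm h.dh hr (inv_mem (h.TN hx)) hn
  have h2 : ∀ c ∈ C[D], (c ∈ K a ↔ c ∈ K (a * r)) → c ∈ D ⊔ Ct K D := fun c hc e => by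
    have key : ∀ y, y ∈ K a → y ∈ K (a * r) → y ∈ D ⊔ Ct K D := fun y h1 h2 =>
      mem_sup_right (h.lam.mem_Ct_iff.2 (h.dh.le_of' (h.lam.symm _ _ h1) (h.lam.symm _ _ h2)))
    by_cases c1 : c ∈ K a
    · exact key c c1 (e.1 c1)
    · simpa [mul_assoc, h.dh.zz] using mul_mem (key _
        (h.lam.two a h.dh.aa _ (centralizer_le_singleton h.dh.ha hc) _ h.dh.four.t_mem c1 (h.not_K' h.dh.ha h.dh.ar))
        (h.lam.two _ h.dh.alt.aa _ (centralizer_le_singleton h.dh.alt.ha hc) _ h.dh.alt.four.t_mem (mt e.2 c1)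
          (h.not_K' h.dh.alt.ha h.dh.alt.ar))) (mem_sup_left h.dh.zD)
  refine h.le_of_psi le_rfl fun x hx n hn _ _ _ => ?_
  by_cases c : x ∈ D ⊔ Ct K D
  · exact mul_mem (inv_mem c) (h.norm_N1 hn c)
  obtain ⟨d, hd, y, hy, rfl⟩ := (mem_sup_of_le_normalizer (centralizer_le_normalizer _)).1 (h1 hx)
  have c1 : y⁻¹ ∉ D ⊔ Ct K D := fun e => c (mul_mem (mem_sup_left hd) (inv_mem_iff.1 e))
  have c2 : n * y * n⁻¹ ∉ D ⊔ Ct K D := fun e => c1 (by simpa [mul_assoc] using inv_mem (h.norm_N1 (inv_mem hn) e))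
  have hy' := hC n hn y hy
  have c3 := h2 _ (mul_mem (inv_mem hy) hy') (by
    rw [h.lam.mul_iff h.dh.aa (centralizer_le_singleton h.dh.ha (inv_mem hy)) (centralizer_le_singleton h.dh.ha hy'),
      h.lam.mul_iff h.dh.alt.aa (centralizer_le_singleton h.dh.alt.ha (inv_mem hy))
        (centralizer_le_singleton h.dh.alt.ha hy')]
    have := mt (h2 _ (inv_mem hy)) c1
    have := mt (h2 _ hy') c2
    tauto)
  have c4 := mul_mem (inv_mem hd) (conj_mem_of_mem_normalizer hn hd)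
  have e : (d * y)⁻¹ * (n * (d * y) * n⁻¹) = y⁻¹ * (d⁻¹ * (n * d * n⁻¹)) * y⁻¹⁻¹ * (y⁻¹ * (n * y * n⁻¹)) := by group
  rw [e]
  exact mul_mem (mem_sup_left (conj_mem_of_mem_normalizer (centralizer_le_normalizer _ (inv_mem hy)) c4)) c3

theorem dec {t : G} (ht : t ∈ T) : ∃ d ∈ D, ∃ x ∈ T ⊓ Ct K D, d * x = t := by
  obtain ⟨d, hd, x, hx, rfl⟩ :=
    (mem_sup_of_le_normalizer ((h.lam.Ct_le _).trans (centralizer_le_normalizer _))).1 (h.le_N1 ht)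
  exact ⟨d, hd, x, ⟨by simpa using mul_mem (inv_mem (h.DT hd)) ht, hx⟩, rfl⟩

theorem eq_one {w x : G} (hw : w ∈ D) (hw' : w ∉ zpowers r) (hx : x ∈ D) (h1 : x ∈ K z) (h2 : x ∈ K w) : x = 1 := by
  rcases (h.dh.with' hw hw').cent hx (mem_c1.1 (h.lam.le _ h2)) with e | rfl | rfl | rfl
  · exact e
  · exact absurd h2 (h.not_K' hw hw')
  · exact absurd h1 (h.not_K hw hw')
  · exact absurd ((mul_mem_cancel_left (h.lam.self z)).1 h1) (h.not_K hw hw')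

theorem disj {x : G} (hx : x ∈ D) (hx' : x ∈ Ct K D) : x = 1 :=
  h.eq_one h.dh.ha h.dh.ar hx (mem_Ct.1 hx' _ h.dh.zD) (mem_Ct.1 hx' _ h.dh.ha)

theorem fus {v : G} (hv : v ∈ D) (hv2 : orderOf v = 2) : Cj z v := by
  have hc : ∀ x ∈ T ⊓ Ct K D, ∀ d ∈ D, d * x = x * d := fun x hx => mem_centralizer_iff.1 (h.lam.Ct_le _ hx.2)
  have hn : T ⊓ Ct K D ≤ N[zpowers r] := le_normalizer_of_le_centralizer fun x hx =>
    mem_centralizer_iff.2 fun d hd => hc x hx d (h.dh.le hd)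
  have key : ∀ d ∈ D, d ∈ zpowers r ⊔ T ⊓ Ct K D → d ∈ zpowers r := fun d hd e => by
    obtain ⟨s, hs, x, hx, rfl⟩ := (mem_sup_of_le_normalizer hn).1 e
    rwa [h.disj (by simpa using mul_mem (inv_mem (h.dh.le hs)) hd) hx.2, mul_one]
  obtain ⟨P, rfl⟩ := h.syl.exists_sylow_top
  obtain ⟨g, hg⟩ := thompson_transfer' h.idx P (M := zpowers r ⊔ P ⊓ Ct K D) (relIndex_two (h.DT h.dh.ha)
    (fun e => h.dh.ar (key a h.dh.ha e)) fun _ hx₀ _ hy₀ c c' => by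
      obtain ⟨d, hd, x, hx, rfl⟩ := h.dec hx₀
      obtain ⟨d', hd', y, hy, rfl⟩ := h.dec hy₀
      rw [mul_assoc, ← mul_assoc x, ← hc x hx d' hd', mul_assoc, ← mul_assoc]
      exact mul_mem (mem_sup_left (h.dh.mul d hd d' hd' (fun e => c (mul_mem (mem_sup_left e) (mem_sup_right hx)))
        fun e => c' (mul_mem (mem_sup_left e) (mem_sup_right hy)))) (mem_sup_right (mul_mem hx hy)))
    (hv2 ▸ pow_orderOf_eq_one v)
  have := key _ ((h.memD _).2 ⟨sup_le (h.dh.le.trans h.DT) inf_le_left hg, h.sc.conj _ (h.Dm hv) g⟩) hg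
  exact (h.dh.eq_z this (mul_self_of_orderOf_two (ord2 hv2 g)) (BSW.ne_one_of_orderOf_two (ord2 hv2 g)) ▸
    Cj.mk' g v).symm

theorem scR {x g : G} (hx : x ∈ Ct K D) (hy : g * x * g⁻¹ ∈ T) : g * x * g⁻¹ ∈ Ct K D := by
  have h1 := h.lam.conj_Ct hx g
  generalize g * x * g⁻¹ = y at h1 hy
  obtain ⟨Q, hQ, h2⟩ := exists_isSylowIn_ge (h.conj g).pD (le_c1_iff.2 (h.lam.Ct_le _ h1))
  obtain ⟨c, hc, h3⟩ := hQ.exists_conj_le (isPGroup_zpowers_two h.dh.zz) (zpowers_le.2 (mem_c1_symm (h.Tz hy)))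
  have h4 := conj_mem_conj ((h.conj g).mem_of hQ.isPGroup h2 (h3 (conj_mem_conj (mem_zpowers z) c))
    (h.sc.conj _ (h.Dm h.dh.zD) c)) c⁻¹
  have h5 := h.lam.conj_Ct h1 c⁻¹
  rw [conj_eq_of_c1 (inv_mem hc)] at h5
  rw [show c⁻¹ * (c * z * c⁻¹) * c⁻¹⁻¹ = z by group] at h4
  obtain ⟨w, hw, f, -⟩ := ((h.conj g).conj c⁻¹).dh.exists_four h4 h.dh.hz
  have k1 := mem_Ct.1 h5 _ h4
  have k2 := mem_Ct.1 h5 _ hw
  have hwD := ((h.conj g).conj c⁻¹).Dm hw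
  obtain ⟨d, hd, e⟩ := h.loc (subset_closure ⟨hwD, f.v_mem⟩)
  have hO := fun {x : G} (hx : x ∈ C1[z]) => le_normalizer_piCoreOf {2}ᶜ _ hx
  obtain ⟨o, ho, e'⟩ := conj_of_odd (odd_oc _) (h.pD.to_le (zpowers_le.2 hd)) (isPGroup_zpowers_two f.vv)
    (hO (h.dh.le_c1 hd)) e
  have f' := f.conj o
  rw [e', conj_eq_of_c1 (oc_le _ ho)] at f'
  have hd' := h.dh.not_mem f'.vv f'.v_ne f'.ne
  have k3 : y ∈ C1[d] := c1_of_conj (eq_of_mul_inv_eq_one (h.disjO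
    (mul_mem (conj_mem_of_le_normalizer h.TN hy hd) (inv_mem hd)) (by
      have := mul_mem (conj_mem_of_mem_normalizer (hO (h.Tz hy)) (inv_mem e)) e
      rwa [show y * (w * d⁻¹)⁻¹ * y⁻¹ * (w * d⁻¹) = y * d * (y * w)⁻¹ * w * d⁻¹ by group, mem_c1.1 (h.lam.le _ k2),
        show y * d * (w * y)⁻¹ * w * d⁻¹ = y * d * y⁻¹ * d⁻¹ by group] at this)))
  obtain ⟨o', ho', e''⟩ := conj_of_odd (X := O[C1[z]] ⊓ C1[y]) (odd_of_le (odd_oc _) inf_le_left)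
    (h.pD.to_le (zpowers_le.2 hd)) (isPGroup_zpowers_two f.vv) (zpowers_le.1 (le_normalizer_inf
      (zpowers_le.2 (hO (h.dh.le_c1 hd))) (zpowers_le.2 (le_normalizer (mem_c1_symm k3)))))
    ⟨e, Subgroup.mul_mem _ (mem_c1_symm (h.lam.le _ k2)) (inv_mem (mem_c1_symm k3))⟩
  have k4 := h.lam.conj _ _ o' k2
  rw [e'', conj_eq_of_c1 ho'.2] at k4
  obtain ⟨s, hs, x', hx', rfl⟩ := h.dec hy
  rw [h.eq_one hd hd' hs ((mul_mem_cancel_right (mem_Ct.1 hx'.2 _ h.dh.zD)).1 k1)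
    ((mul_mem_cancel_right (mem_Ct.1 hx'.2 _ hd)).1 k4), one_mul]
  exact hx'.2

theorem prd : Prd 𝒟 T D (T ⊓ Ct K D) r z a :=
  ⟨h.sc, h.syl, h.memD, h.dh, h.simple, h.ih, inf_le_left,
    fun d hd _ hx => mem_centralizer_iff.1 (h.lam.Ct_le _ hx.2) d hd, fun _ hx hx' => h.disj hx hx'.2,
    fun _ => h.dec, fun _ hx _ hy => ⟨hy, h.scR hx.2 hy⟩, fun _ => h.fus,
    fun _ hx hx' => h.loc (subset_closure ⟨hx, hx'⟩)⟩

end Ctx

end Cfsg.Lib.SCQ
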