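import Cfsg.Agent.Lib.SCQ.Red
import Cfsg.Agent.Lib.SCQ.End

/-!
# A strongly closed 2-subgroup of rank one is a Sylow 2-subgroup of its normal closure
-/

set_option autoImplicit false

namespace Cfsg.Lib.SCQ
open Subgroup Cfsg.Lib Cfsg.Lib.FT Cfsg.Lib.GW Cfsg.Lib.BSW Cfsg.Lib.DD

universe u

variable {G : Type*} [Group G] {𝒮 : Set G}

/-- the projection on the central quotient -/
abbrev pz (G : Type*) [Group G] : G →* G ⧸ center G := QuotientGroup.mk' _

theorem pz_surj : Function.Surjective (pz G) := QuotientGroup.mk'_surjective _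

theorem pz_eq {x y : G} : pz G x = pz G y ↔ x⁻¹ * y ∈ center G := QuotientGroup.eq

theorem pz_one {x : G} : pz G x = 1 ↔ x ∈ center G := QuotientGroup.eq_one_iff x

/-- the image of the centralizer of a lift -/
noncomputable def Kz (v : G ⧸ center G) : Subgroup (G ⧸ center G) := C1[v.out].map (pz G)

theorem comm_of_pz {x y v : G} (e : pz G x = pz G y) (h : x ∈ C1[v]) : y ∈ C1[v] := by
  simpa using mul_mem h (mem_c1.2 (mem_center_iff.1 (pz_eq.1 e) v).symm)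

theorem mem_Kz {v x : G} : pz G x ∈ Kz (pz G v) ↔ x ∈ C1[v] := by
  have e : pz G (pz G v).out = pz G v := QuotientGroup.out_eq' _
  exact ⟨fun ⟨y, hy, e'⟩ => mem_c1_symm (comm_of_pz e (mem_c1_symm (comm_of_pz e' hy))),
    fun h => ⟨x, mem_c1_symm (comm_of_pz e.symm (mem_c1_symm h)), rfl⟩⟩

variable [Finite G]

namespace Mn

variable {T S : Subgroup G} (h : Mn 𝒮 T S) {ρ z α : G} (hz : z ∈ S) (hz2 : orderOf z = 2) (hc : z ∈ center G)
  (hu : ∀ x ∈ 𝒮, x * x = 1 → x ∈ zpowers z) (q : Qt S ρ z α)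
include h hz hz2 hc hu q

omit hc hu in
theorem central {n : G} (hn : ∀ g, n * g * n⁻¹ * g⁻¹ ∈ center G) : n ∈ center G := by
  have : pResidual 2 G ≤ C1[n] := (closure_le _).2 fun g hg => by
    have h1 := hn g
    have e : n * g * n⁻¹ = n * g * n⁻¹ * g⁻¹ * g := by group
    generalize n * g * n⁻¹ * g⁻¹ = c at h1 e
    have h2 : (c * g) ^ orderOf g = 1 := by rw [← e, conj_pow, pow_orderOf_eq_one]; group
    rw [Commute.mul_pow (mem_center_iff.1 h1 g).symm, pow_orderOf_eq_one, mul_one] at h2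
    rw [eq_one_of_odd (X := zpowers c) (by
      rw [Nat.card_zpowers]
      exact (Nat.coprime_two_right.1 hg).of_dvd_nat (orderOf_dvd_of_pow_eq_one h2)) (mem_zpowers c)
      (h.pZ.to_le (zpowers_le.2 h1)), one_mul] at e
    exact mem_c1_symm (c1_of_conj e)
  exact mem_center_iff.2 fun g => mem_c1.1 (this (h.res hz hz2 q ▸ mem_top g))

omit hc hu hz hz2 h [Finite G] in
theorem not_central : α ∉ center G := fun e => q.ρρ (by
  have := q.inv q.hα q.αρ (mem_zpowers ρ)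
  rw [← mem_center_iff.1 e, mul_inv_cancel_right] at this
  exact mul_eq_one_iff_eq_inv.2 this)

theorem lam : Lam (pz G '' 𝒮) Kz := by
  have zz := mul_self_of_orderOf_two hz2
  refine ⟨fun v x hx => ?_, fun v => ?_, fun v x hx => ?_, fun v x g hx => ?_, fun v hv x hx y hy h1 h2 => ?_, ?_⟩
  · obtain ⟨v, rfl⟩ := pz_surj v
    obtain ⟨x, rfl⟩ := pz_surj x
    exact mem_c1.2 (by rw [← map_mul, mem_c1.1 (mem_Kz.1 hx), map_mul])
  · obtain ⟨v, rfl⟩ := pz_surj v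
    exact mem_Kz.2 (self_mem_c1 v)
  · obtain ⟨v, rfl⟩ := pz_surj v
    obtain ⟨x, rfl⟩ := pz_surj x
    exact mem_Kz.2 (mem_c1_symm (mem_Kz.1 hx))
  · obtain ⟨v, rfl⟩ := pz_surj v
    obtain ⟨x, rfl⟩ := pz_surj x
    obtain ⟨g, rfl⟩ := pz_surj g
    simpa only [map_mul, map_inv] using mem_Kz.2 (conj_mem_c1 (mem_Kz.1 hx) g)
  · obtain ⟨v, rfl⟩ := pz_surj v
    obtain ⟨x, rfl⟩ := pz_surj x
    obtain ⟨y, rfl⟩ := pz_surj y
    rw [← map_mul, pz_one] at hv
    have key : ∀ x, pz G x ∈ C1[pz G v] → pz G x ∉ Kz (pz G v) → x * v * x⁻¹ = z * v := fun x hx h1 => by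
      have h3 : x * v * x⁻¹ * v⁻¹ ∈ center G := pz_one.1 (by
        rw [map_mul, map_mul, map_mul, mem_c1.1 hx, map_inv, map_inv]; group)
      have e : x * v * x⁻¹ = x * v * x⁻¹ * v⁻¹ * v := by group
      have e' : x * v * x⁻¹ * (x * v * x⁻¹) = v * v := by
        rw [← conj_mul', mem_center_iff.1 hv, mul_inv_cancel_right]
      generalize x * v * x⁻¹ * v⁻¹ = c at h3 e
      rw [e, mul_assoc, ← mul_assoc v, mem_center_iff.1 h3 v, mul_assoc, ← mul_assoc c, mul_eq_right] at e'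
      rw [e, h.uZ hz hz2 hc hu q h3 e' fun e1 => h1 (mem_Kz.2 (c1_of_conj (by rw [e, e1, one_mul])))]
    rw [← map_mul, mem_Kz]
    refine c1_of_conj ?_
    calc x * y * v * (x * y)⁻¹ = x * (y * v * y⁻¹) * x⁻¹ := by group
      _ = v := by
        rw [key y hy h2, conj_mul', key x hx h1, mem_center_iff.1 hc, mul_inv_cancel_right, ← mul_assoc, zz, one_mul]
  · rintro _ ⟨v, hv, rfl⟩ _ ⟨w, hw, rfl⟩ h1 h2 e
    have key : ∀ v ∈ 𝒮, orderOf (pz G v) = 2 → v * v = z := fun v hv h1 =>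
      ((mem_zpowers_two zz).1 (h.mem_z hz hz2 hc hu q (N := center G) (fun e => not_central q (e ▸ mem_top α))
        (pow_two v ▸ h.pow hv 2) (pz_one.1 (by rw [map_mul, mul_self_of_orderOf_two h1])))).resolve_left fun e =>
          BSW.ne_one_of_orderOf_two h1 (pz_one.2 (zpowers_le.2 hc (hu v hv e)))
    have c := mem_Kz.1 e
    have := hu _ (h.mul _ ((h.two v hv).to_sup_of_normal_left' (h.two w hw) (le_normalizer_of_le_centralizer
      (by rwa [centralizer_zpowers, zpowers_le]))) v (mem_sup_left (mem_zpowers v)) w (mem_sup_right (mem_zpowers w))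
      hv hw) (by rw [mul_assoc, ← mul_assoc w, mem_c1.1 c, mul_assoc, ← mul_assoc, key v hv h1, key w hw h2, zz])
    have := pz_one.2 (zpowers_le.2 hc this)
    rw [map_mul] at this
    rw [← inv_eq_of_mul_eq_one_right this, inv_eq_of_orderOf_two h1]

omit hz hz2 hu in
theorem dihGen : DihGen (S.map (pz G)) (pz G ρ) := by
  have key : ∀ x, pz G x ∉ zpowers (pz G ρ) → x ∉ zpowers ρ := fun x h1 h2 =>
    h1 (MonoidHom.map_zpowers (pz G) ρ ▸ mem_map_of_mem _ h2)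
  refine ⟨mem_map_of_mem _ q.hρ, ?_, ?_⟩
  · rintro _ ⟨x, hx, rfl⟩ h1
    rw [← map_mul, q.sq x hx (key x h1), pz_one.2 hc]
  · rintro _ ⟨x, hx, rfl⟩ _ ⟨y, hy, rfl⟩ h1 h2
    exact map_mul (pz G) x y ▸ MonoidHom.map_zpowers (pz G) ρ ▸ mem_map_of_mem _ (q.mul x hx y hy (key x h1) (key y h2))

omit hz hz2 hu hc q in
theorem memD (x : G ⧸ center G) : x ∈ S.map (pz G) ↔ x ∈ T.map (pz G) ∧ x ∈ pz G '' 𝒮 := by
  refine ⟨fun ⟨s, hs, e⟩ => ⟨⟨s, h.ST hs, e⟩, s, h.Sm hs, e⟩, ?_⟩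
  rintro ⟨⟨t, ht, e⟩, s, hs, rfl⟩
  refine mem_map_of_mem _ ((h.mem s).2 ⟨?_, hs⟩)
  simpa using mul_mem ht (h.syl.le_of_normalizes h.pZ le_top le_normalizer_of_normal (pz_eq.1 e))

omit hz hz2 hu hc q in
theorem syl' : IsSylowIn 2 (T.map (pz G)) ⊤ := by
  simpa only [← MonoidHom.range_eq_map, MonoidHom.range_eq_top.2 pz_surj] using h.syl.map (pz G)

omit hz hz2 hu in
theorem exists_dh : ∃ r z a, Dh (S.map (pz G)) r z a ∧ T.map (pz G) ≤ C1[z] := by
  have hn : T ≤ N[S] := le_normalizer_iff.2 fun t ht x hx =>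
    (h.mem _).2 ⟨mul_mem (mul_mem ht (h.ST hx)) (inv_mem ht), h.conj _ (h.Sm hx) t⟩
  obtain ⟨z, hz, hz2, hT⟩ : ∃ z ∈ S.map (pz G), orderOf z = 2 ∧ T.map (pz G) ≤ C1[z] := by
    obtain ⟨z, h1, h2, h3⟩ := pg_exists_fixed_of_order_p (h.pS.map (pz G)) h.syl'.isPGroup
      ((map_mono hn).trans (le_normalizer_map _)) fun e => not_central q (pz_one.1 (e.le (mem_map_of_mem _ q.hα)))
    exact ⟨z, h1, h2, le_c1_iff.2 h3⟩
  obtain ⟨r, d, hr⟩ := (h.dihGen hc q).exists_mem hz hz2 ((map_mono h.ST).trans hT)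
  by_contra c
  have key : ∀ x ∈ S.map (pz G), x ∈ zpowers r := fun x hx => by_contra fun e => c ⟨r, z, x, ⟨d, hz2, hr, hx, e⟩, hT⟩
  obtain ⟨r, -, rfl⟩ := d.mem
  have k2 : ∀ x ∈ S, x ∈ C1[r] := fun x hx => by
    obtain ⟨i, hi⟩ := key _ (mem_map_of_mem _ hx)
    exact comm_of_pz ((map_zpow _ r i).trans hi) (zpow_mem (self_mem_c1 r) i)
  obtain ⟨i, hi⟩ := key _ (mem_map_of_mem _ q.hρ)
  have := q.inv q.hα q.αρ (mem_zpowers ρ)
  rw [← mem_c1.1 (comm_of_pz ((map_zpow _ r i).trans hi) (zpow_mem (mem_c1_symm (k2 α q.hα)) i)),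
    mul_inv_cancel_right] at this
  exact q.ρρ (mul_eq_one_iff_eq_inv.2 this)

theorem simple : IsSimpleGroup (G ⧸ center G) := by
  obtain ⟨r, z', a, d, -⟩ := h.exists_dh hc q
  have sc := h.toSCs.map (pz G) pz_surj
  have hk : (pz G).ker = center G := QuotientGroup.ker_mk' _
  have hO : pPrimeCore 2 (G ⧸ center G) = ⊥ := by
    have := comap_pPrimeCore_of_central (pz G) (hk.symm ▸ h.pZ) hk.le
    rw [h.core, sup_bot_eq] at this
    rw [← map_comap_eq_self_of_surjective pz_surj (pPrimeCore _ _), Subgroup.map_eq_bot_iff]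
    exact this
  refine @IsSimpleGroup.mk _ _ ⟨z', 1, d.z_ne⟩ fun N hN => or_iff_not_imp_right.2 fun c => ?_
  have h1 : ∀ x ∈ pz G '' 𝒮, x ∈ N → x = 1 := by
    rintro _ ⟨x, hx, rfl⟩ hx'
    exact pz_one.2 (zpowers_le.2 hc (h.mem_z hz hz2 hc hu q (N := N.comap (pz G)) (fun e => c (by
      rw [← map_comap_eq_self_of_surjective pz_surj N, e, ← MonoidHom.range_eq_map,
        MonoidHom.range_eq_top.2 pz_surj])) hx hx'))
  have h2 : S.map (pz G) ≤ C[N] := d.le_of_invs fun u hu hu2 => le_c1_iff.1 fun n hn => by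
    have uu := mul_self_of_orderOf_two hu2
    have um := ((h.memD u).1 hu).2
    have k : ∀ g ∈ N ⊔ zpowers u, g * u * g⁻¹ * u⁻¹ ∈ N := fun g hg => by
      obtain ⟨n, hn, s, hs, rfl⟩ := (mem_sup_of_le_normalizer le_normalizer_of_normal).1 hg
      rw [mul_assoc n s, comm_of_mem_zpowers hs (mem_zpowers u)]
      simpa [mul_assoc] using mul_mem hn (hN.conj_mem _ (inv_mem hn) u)
    have := zstar_in (X := N ⊔ zpowers u) (mem_sup_right (mem_zpowers u)) uu (fun g hg e => by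
      have k1 := k g hg
      rw [inv_eq_of_orderOf_two hu2] at k1
      exact (eq_inv_of_mul_eq_one_left (h1 _ (sc.mul _ (isPGroup_two (conj_conj_mul uu g) uu (mem_c1.2 e.symm)) _
        (left_mem_four _ _) _ (right_mem_four _ _) (sc.conj u um g) um) k1)).trans (inv_eq_of_orderOf_two hu2))
      (mem_sup_left hn)
    have h3 : O[N ⊔ zpowers u] ⊓ N = ⊥ := Fus.eq_bot_of hO inf_le_right (le_normalizer_inf
      (le_sup_left.trans (le_normalizer_piCoreOf _ _)) le_normalizer) (odd_of_le (odd_oc _) inf_le_left)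
    exact c1_of_conj (eq_of_mul_inv_eq_one (mem_bot.1 (h3.le ⟨this, k n (mem_sup_left hn)⟩)))
  have h3 : closure 𝒮 ≤ C[N].comap (pz G) := (closure_le _).2 fun x hx => by
    obtain ⟨g, hg⟩ := h.exists_conj hx
    have := (inferInstance : C[N].Normal).conj_mem _ (h2 (mem_map_of_mem _ hg)) (pz G g)⁻¹
    simpa [mul_assoc] using this
  refine eq_bot_iff.2 fun n hn => ?_
  obtain ⟨n, rfl⟩ := pz_surj n
  refine pz_one.2 (h.central hz hz2 q fun g => pz_one.1 ?_)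
  rw [map_mul, map_mul, map_mul, mem_centralizer_iff.1 (h3 (h.gen ▸ mem_top g)) _ hn, map_inv, map_inv]
  group

omit hz hz2 hc hu q in
theorem false : False := by
  obtain ⟨z, hz, hz2, hc, hu⟩ := h.exists_z
  obtain ⟨ρ, α, q⟩ := h.exists_qt' hz hz2 hc hu
  obtain ⟨r, z', a, d, hT⟩ := h.exists_dh hc q
  have c : Ctx (pz G '' 𝒮) Kz (T.map (pz G)) (S.map (pz G)) r z' a :=
    ⟨h.toSCs.map _ pz_surj, h.lam hz hz2 hc hu q, h.syl', h.memD, d, hT, h.simple hz hz2 hc hu q, fun H hH x hx h2 => by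
      have e : pz G '' 𝒮 ∩ H = pz G '' (𝒮 ∩ H.comap (pz G)) := (Set.image_inter_preimage _ _ _).symm
      rw [e, ← MonoidHom.map_closure] at hx
      obtain ⟨x, hx, rfl⟩ := hx
      refine ⟨x, h.ih _ (fun e => hH (by
        rw [← map_comap_eq_self_of_surjective pz_surj H, e, ← MonoidHom.range_eq_map,
          MonoidHom.range_eq_top.2 pz_surj])) x hx ((h2.comap_of_ker_isPGroup (pz G) ?_).to_le
            (zpowers_le.2 (mem_zpowers _))), rfl⟩
      exact (QuotientGroup.ker_mk' (center G)).symm ▸ h.pZ⟩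
  refine h.fin3 hz hz2 q ?_
  simpa only [comap_map_eq, QuotientGroup.ker_mk'] using map_le_iff_le_comap.1 c.prd.le

end Mn

omit [Finite G] in
theorem SQ.comap (h : SQ 𝒮) [Finite G] (H : Subgroup G) : SQ (H.subtype ⁻¹' 𝒮) :=
  ⟨h.toSCs.comap H, fun x hx y hy h1 h2 e => Subtype.ext (h.uq x hx y hy (by simpa using h1) (by simpa using h2)
    (congrArg Subtype.val e))⟩

theorem aux (n : ℕ) : ∀ (G : Type u) [Group G] [Finite G], Nat.card G = n → ∀ 𝒮 : Set G, SQ 𝒮 →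
    ∀ x ∈ closure 𝒮, IsPGroup 2 (zpowers x) → x ∈ 𝒮 := by
  induction n using Nat.strong_induction_on with
  | _ n ih =>
  intro G _ _ hn 𝒮 h
  have h1 : ∀ H : Subgroup G, H ≠ ⊤ → ∀ x ∈ closure (𝒮 ∩ H), IsPGroup 2 (zpowers x) → x ∈ 𝒮 := fun H hH x hx h2 => by
    have e : 𝒮 ∩ H = H.subtype '' (H.subtype ⁻¹' 𝒮) := by
      rw [Set.image_preimage_eq_inter_range, coe_subtype, Subtype.range_coe]
    rw [e, ← MonoidHom.map_closure] at hx
    obtain ⟨x, hx, rfl⟩ := hx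
    refine ih _ (hn ▸ ?_) H rfl _ (h.comap H) x hx (h2.comap_subtype.to_le (zpowers_le.2 (mem_zpowers _)))
    rw [← card_top (G := G)]
    exact tr_card_lt_of_lt (lt_top_iff_ne_top.2 hH)
  by_cases c : closure 𝒮 = ⊤
  swap
  · exact fun x hx => h1 _ c x (by rwa [Set.inter_eq_left.2 Subgroup.subset_closure])
  obtain ⟨T, hT⟩ := exists_isSylowIn 2 (⊤ : Subgroup G)
  intro x _ h2
  obtain ⟨g, -, e⟩ := hT.exists_conj_le h2 le_top
  suffices T ≤ h.sub hT.isPGroup by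
    simpa [mul_assoc] using h.conj _ (this (e (conj_mem_conj (mem_zpowers x) g))).2 g⁻¹
  by_contra hne
  refine Mn.false (S := h.sub hT.isPGroup) ⟨h, hT, fun _ => Iff.rfl, c, h1, fun N hN hb hr t ht => ?_, hne⟩
  set f := QuotientGroup.mk' N
  have hf : Function.Surjective f := QuotientGroup.mk'_surjective _
  have hq : SQ (f '' 𝒮) := ⟨h.toSCs.map f hf, by
    rintro _ ⟨x, hx, rfl⟩ _ ⟨y, hy, rfl⟩ a1 a2 a3
    obtain ⟨P, hP, H⟩ := h.lift f hf (isPGroup_two (mul_self_of_orderOf_two a1) (mul_self_of_orderOf_two a2) (mem_c1.2 a3))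
    obtain ⟨x', b1, b2, b3⟩ := H x hx (left_mem_four _ _)
    obtain ⟨y', c1, c2, c3⟩ := H y hy (right_mem_four _ _)
    obtain ⟨k, -, e⟩ := hT.exists_conj_le hP le_top
    have key : ∀ x, orderOf (f x) = 2 → k * x * k⁻¹ ∉ N ∧ k * x * k⁻¹ * (k * x * k⁻¹) ∈ N := fun x a => by
      have := ord2 a (f k)
      rw [← map_inv, ← map_mul, ← map_mul] at this
      exact ⟨fun e => BSW.ne_one_of_orderOf_two this ((QuotientGroup.eq_one_iff _).2 e),
        (QuotientGroup.eq_one_iff _).1 ((map_mul f _ _).trans (mul_self_of_orderOf_two this))⟩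
    have := hr _ ⟨e (conj_mem_conj b1 k), h.conj _ b2 k⟩ _ ⟨e (conj_mem_conj c1 k), h.conj _ c2 k⟩
      (key x' (b3 ▸ a1)).1 (key y' (c3 ▸ a2)).1 (key x' (b3 ▸ a1)).2 (key y' (c3 ▸ a2)).2
    have : f (k * x' * k⁻¹) = f (k * y' * k⁻¹) := QuotientGroup.eq.2 this
    simpa only [map_mul, mul_left_inj, mul_right_inj, b3, c3] using this⟩
  obtain ⟨s, hs, e⟩ := ih _ (hn ▸ pg_card_quotient_lt N hb) (G ⧸ N) rfl _ hq (f t) (by
    rw [← MonoidHom.map_closure, c]; exact mem_map_of_mem _ trivial)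
    (MonoidHom.map_zpowers f t ▸ (hT.isPGroup.to_le (zpowers_le.2 ht)).map f)
  have h3 : t⁻¹ * s ∈ N := QuotientGroup.eq.1 e.symm
  obtain ⟨k, hk, e'⟩ := (hT.mono le_sup_left le_top : IsSylowIn 2 T (T ⊔ N)).exists_conj_le (h.two s hs)
    (zpowers_le.2 (by simpa using mul_mem (mem_sup_left ht : t ∈ T ⊔ N) (mem_sup_right h3)))
  obtain ⟨p, hp, m, hm, rfl⟩ := (mem_sup_of_le_normalizer' le_normalizer_of_normal).1 hk
  have h4 : m * s * m⁻¹ ∈ T := by
    simpa [mul_assoc] using mul_mem (mul_mem (inv_mem hp) (e' (conj_mem_conj (mem_zpowers s) _))) hp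
  have h5 := mul_mem (mul_mem hm (hN.conj_mem _ (inv_mem hm) s⁻¹)) (inv_mem h3)
  simpa [mul_assoc] using mul_mem (mem_sup_left (S := h.sub hT.isPGroup) (T := N) ⟨h4, h.conj s hs m⟩) (mem_sup_right h5)

theorem rank_one {G : Type*} [Group G] [Finite G] (T : Sylow 2 G) (S : Subgroup G)
    (hsc : IsStronglyClosed S (T : Subgroup G)) (h1 : PRankLE 2 1 S) :
    (T : Subgroup G) ⊓ normalClosure (S : Set G) = S := by
  have key : ∀ x ∈ Group.conjugatesOfSet (S : Set G), x ∈ (T : Subgroup G) → x ∈ S := fun x hx hx' => by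
    obtain ⟨s, hs, e⟩ := Group.mem_conjugatesOfSet_iff.1 hx
    obtain ⟨g, rfl⟩ := isConj_iff.1 e
    exact hsc.2 s hs g hx'
  have hc : ∀ x ∈ Group.conjugatesOfSet (S : Set G), ∀ g, g * x * g⁻¹ ∈ Group.conjugatesOfSet (S : Set G) :=
    fun x hx g => Group.conj_mem_conjugatesOfSet hx
  have hm : ∀ x g, g * x * g⁻¹ ∈ S → x ∈ Group.conjugatesOfSet (S : Set G) := fun x g e => by
    simpa [mul_assoc] using hc _ (Group.subset_conjugatesOfSet e) g⁻¹
  have hk : ∀ P : Subgroup G, IsPGroup 2 P → ∃ k, ∀ x ∈ P, x ∈ Group.conjugatesOfSet (S : Set G) → k * x * k⁻¹ ∈ S :=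
    fun P hP => by
      obtain ⟨k, -, e⟩ := (IsSylowIn.of_sylow_top T).exists_conj_le hP le_top
      exact ⟨k, fun x hx hx' => key _ (hc x hx' k) (e (conj_mem_conj hx k))⟩
  refine le_antisymm (fun x hx => key x (aux _ G rfl _ ⟨⟨hm 1 1 (by simp), hc, fun x hx => ?_, fun P hP x hx y hy a b => ?_⟩,
    fun x hx y hy a b c => ?_⟩ x hx.2 (T.isPGroup'.to_le (zpowers_le.2 hx.1))) hx.1) (le_inf hsc.1 le_normalClosure)
  · obtain ⟨s, hs, e⟩ := Group.mem_conjugatesOfSet_iff.1 hx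
    obtain ⟨g, rfl⟩ := isConj_iff.1 e
    rw [← conj_zpowers]
    exact (T.isPGroup'.to_le (zpowers_le.2 (hsc.1 hs))).map _
  · obtain ⟨k, e⟩ := hk P hP
    exact hm _ k (conj_mul' k x y ▸ mul_mem (e x hx a) (e y hy b))
  · by_contra hne
    have f : Four y x := ⟨b, a, hne, c⟩
    obtain ⟨k, e⟩ := hk _ f.isPGroup
    have hl := four_le_iff.2 ⟨e y (left_mem_four _ _) hy, e x (right_mem_four _ _) hx⟩
    have := h1 ((four _ _).subgroupOf S) (by have := (f.conj k).isMulCommutative; infer_instance)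
      fun u hu => Subtype.ext ((pow_two _).trans ((f.conj k).mul_self hu))
    rw [card_subgroupOf_of_le hl, (f.conj k).card] at this
    omega

end Cfsg.Lib.SCQ
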