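import Cfsg.Agent.Lib.SCQ.Loc
import Cfsg.Agent.Lib.SC2.Ind

/-!
# Strongly closed 2-subgroups of rank one: the minimal counterexample
-/

set_option autoImplicit false

namespace Cfsg.Lib.SCQ
open Subgroup Cfsg.Lib Cfsg.Lib.FT Cfsg.Lib.GW Cfsg.Lib.BSW Cfsg.Lib.DD

variable {G : Type*} [Group G] {𝒮 : Set G}

/-- rank at most one -/
structure SQ (𝒮 : Set G) : Prop extends SCs 𝒮 where
  uq : ∀ x ∈ 𝒮, ∀ y ∈ 𝒮, orderOf x = 2 → orderOf y = 2 → x * y = y * x → x = y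

namespace SCs

variable (h : SCs 𝒮)
include h

theorem pow {x : G} (hx : x ∈ 𝒮) (n : ℕ) : x ^ n ∈ 𝒮 := by
  induction n with
  | zero => simpa using h.one
  | succ n ih => exact pow_succ x n ▸ h.mul _ (h.two x hx) _ (pow_mem (mem_zpowers x) n) x (mem_zpowers x) ih hx

variable [Finite G]

theorem inv {x : G} (hx : x ∈ 𝒮) : x⁻¹ ∈ 𝒮 := by
  obtain ⟨n, hn⟩ := (mem_powers_iff_mem_zpowers (x := x)).2 (inv_mem (mem_zpowers x))
  exact hn ▸ h.pow hx n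

/-- `𝒮 ∩ P` -/
def sub {P : Subgroup G} (hP : IsPGroup 2 P) : Subgroup G where
  carrier := {x | x ∈ P ∧ x ∈ 𝒮}
  one_mem' := ⟨one_mem _, h.one⟩
  mul_mem' hx hy := ⟨mul_mem hx.1 hy.1, h.mul P hP _ hx.1 _ hy.1 hx.2 hy.2⟩
  inv_mem' hx := ⟨inv_mem hx.1, h.inv hx.2⟩

omit [Finite G] in
theorem comap (H : Subgroup G) : SCs (H.subtype ⁻¹' 𝒮) :=
  ⟨h.one, fun x hx g => h.conj x hx g, fun x hx => (h.two x hx).comap_subtype.to_le (zpowers_le.2 (mem_zpowers _)),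
    fun P hP x hx y hy => h.mul _ (hP.map H.subtype) x (mem_map_of_mem _ hx) y (mem_map_of_mem _ hy)⟩

theorem lift {G' : Type*} [Group G'] (f : G →* G') (hf : Function.Surjective f) {Q : Subgroup G'}
    (hQ : IsPGroup 2 Q) : ∃ P : Subgroup G, IsPGroup 2 P ∧ ∀ x ∈ 𝒮, f x ∈ Q → ∃ y ∈ P, y ∈ 𝒮 ∧ f y = f x := by
  obtain ⟨P, hP⟩ := exists_isSylowIn 2 (Q.comap f)
  have h1 := hP.map f
  rw [map_comap_eq_self_of_surjective hf] at h1
  refine ⟨P, hP.isPGroup, fun x hx hx' => ?_⟩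
  obtain ⟨k, hk, e⟩ := hP.exists_conj_le (h.two x hx) (zpowers_le.2 hx')
  obtain ⟨p, hp, e'⟩ := (h1.maximal Q hQ le_rfl h1.le).le hk
  refine ⟨p⁻¹ * (k * x * k⁻¹) * p⁻¹⁻¹, mul_mem (mul_mem (inv_mem hp) (e (conj_mem_conj (mem_zpowers x) k)))
    (inv_mem (inv_mem hp)), h.conj _ (h.conj x hx k) _, ?_⟩
  simp [e', mul_assoc]

theorem map {G' : Type*} [Group G'] (f : G →* G') (hf : Function.Surjective f) : SCs (f '' 𝒮) := by
  refine ⟨⟨1, h.one, map_one f⟩, ?_, ?_, fun Q hQ => ?_⟩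
  · rintro _ ⟨x, hx, rfl⟩ g
    obtain ⟨g, rfl⟩ := hf g
    exact ⟨_, h.conj x hx g, by simp⟩
  · rintro _ ⟨x, hx, rfl⟩
    exact MonoidHom.map_zpowers f x ▸ (h.two x hx).map f
  · obtain ⟨P, hP, H⟩ := h.lift f hf hQ
    rintro _ h1 _ h2 ⟨x, hx, rfl⟩ ⟨y, hy, rfl⟩
    obtain ⟨x', a1, a2, a3⟩ := H x hx h1
    obtain ⟨y', b1, b2, b3⟩ := H y hy h2
    exact ⟨_, h.mul P hP _ a1 _ b1 a2 b2, by rw [map_mul, a3, b3]⟩

end SCs

/-- `S N / N` has at most one involution -/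
def Rk (S N : Subgroup G) : Prop := ∀ x ∈ S, ∀ y ∈ S, x ∉ N → y ∉ N → x * x ∈ N → y * y ∈ N → x⁻¹ * y ∈ N

/-- the minimal counterexample -/
structure Mn (𝒮 : Set G) (T S : Subgroup G) : Prop extends SQ 𝒮 where
  syl : IsSylowIn 2 T ⊤
  mem : ∀ x, x ∈ S ↔ x ∈ T ∧ x ∈ 𝒮
  gen : closure 𝒮 = ⊤
  ih : ∀ H : Subgroup G, H ≠ ⊤ → ∀ x ∈ closure (𝒮 ∩ H), IsPGroup 2 (zpowers x) → x ∈ 𝒮
  quo : ∀ N : Subgroup G, N.Normal → N ≠ ⊥ → Rk S N → T ≤ S ⊔ N
  ne : ¬ T ≤ S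

/-- generalized quaternion -/
structure Qt (S : Subgroup G) (ρ z α : G) : Prop where
  hρ : ρ ∈ S
  hα : α ∈ S
  αρ : α ∉ zpowers ρ
  ρρ : ρ * ρ ≠ 1
  sq : ∀ x ∈ S, x ∉ zpowers ρ → x * x = z
  mul : ∀ x ∈ S, ∀ y ∈ S, x ∉ zpowers ρ → y ∉ zpowers ρ → x * y ∈ zpowers ρ

theorem Qt.inv {S : Subgroup G} {ρ z α x y : G} (q : Qt S ρ z α) (hx : x ∈ S) (hx' : x ∉ zpowers ρ)
    (hy : y ∈ zpowers ρ) : x * y * x⁻¹ = y⁻¹ := by
  have := q.sq _ (mul_mem hx (zpowers_le.2 q.hρ hy)) fun e => hx' ((mul_mem_cancel_right hy).1 e)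
  rw [← q.sq x hx hx', mul_assoc, mul_right_inj] at this
  calc x * y * x⁻¹ = y⁻¹ * (y * (x * y)) * x⁻¹ := by group
    _ = _ := by rw [this]; group

variable [Finite G]

theorem exists_qt {S : Subgroup G} (hS : IsPGroup 2 S) {z : G} (hz : ∀ x ∈ S, orderOf x = 2 → x = z)
    (hc : ¬ IsMulCommutative S) : ∃ ρ α, Qt S ρ z α := by
  obtain c | ⟨n, ⟨e⟩⟩ := pg_isCyclic_or_quaternion_of_unique_involution hS fun x y hx hy =>
    Subtype.ext ((hz x x.2 (by simpa using hx)).trans (hz y y.2 (by simpa using hy)).symm)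
  · exact absurd c.isMulCommutative hc
  set f := S.subtype.comp e.symm.toMonoidHom
  have hf : Function.Injective f := S.subtype_injective.comp e.symm.injective
  have hm : ∀ x, f x ∈ S := fun x => (e.symm x).2
  have ha : ∀ i, f (.a i) ∈ zpowers (f (.a 1)) := fun i => ⟨(i.val : ℕ), by
    simp only [zpow_natCast, ← map_pow, QuaternionGroup.a_one_pow, ZMod.natCast_zmod_val]⟩
  have hx : ∀ x ∈ S, x ∉ zpowers (f (.a 1)) → ∃ i, x = f (.xa i) := fun x hx hx' => by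
    have : x = f (e ⟨x, hx⟩) := by simp [f]
    rcases c : e ⟨x, hx⟩ with i | i <;> rw [c] at this
    · exact absurd (this ▸ ha i) hx'
    · exact ⟨i, this⟩
  refine ⟨f (.a 1), f (.xa 0), hm _, hm _, fun c => ?_, fun c => ?_, fun x h1 h2 => ?_, fun x h1 y h2 h3 h4 => ?_⟩
  · obtain ⟨k, hk⟩ := (mem_powers_iff_mem_zpowers.2 c)
    simp only [← map_pow, QuaternionGroup.a_one_pow] at hk
    exact absurd (hf hk) (by simp)
  · have := orderOf_dvd_of_pow_eq_one (n := 2) ((pow_two _).trans c)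
    rw [orderOf_injective f hf, QuaternionGroup.orderOf_a_one] at this
    have := Nat.le_of_dvd two_pos this
    have := Nat.one_lt_two_pow (n := n + 1) (by omega)
    omega
  · obtain ⟨i, rfl⟩ := hx x h1 h2
    refine hz _ (mul_mem h1 h1) ?_
    rw [← pow_two, orderOf_pow, orderOf_injective f hf, QuaternionGroup.orderOf_xa]
    rfl
  · obtain ⟨i, rfl⟩ := hx x h1 h3
    obtain ⟨j, rfl⟩ := hx y h2 h4
    rw [← map_mul, QuaternionGroup.xa_mul_xa]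
    exact ha _

namespace Mn

variable {T S : Subgroup G} (h : Mn 𝒮 T S)
include h

omit [Finite G] in
theorem ST : S ≤ T := fun x hx => ((h.mem x).1 hx).1

omit [Finite G] in
theorem Sm {x : G} (hx : x ∈ S) : x ∈ 𝒮 := ((h.mem x).1 hx).2

omit [Finite G] in
theorem pS : IsPGroup 2 S := h.syl.isPGroup.to_le h.ST

theorem exists_conj {x : G} (hx : x ∈ 𝒮) : ∃ g : G, g * x * g⁻¹ ∈ S := by
  obtain ⟨g, -, e⟩ := h.syl.exists_conj_le (h.two x hx) le_top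
  exact ⟨g, (h.mem _).2 ⟨e (conj_mem_conj (mem_zpowers x) g), h.conj x hx g⟩⟩

omit [Finite G] in
theorem fin1 {N : Subgroup G} [hN : N.Normal] (h1 : N ≠ ⊥) (h2 : Rk S N) (h3 : T ⊓ N ≤ S) : False :=
  h.ne fun t ht => by
    obtain ⟨s, hs, n, hn, rfl⟩ := (mem_sup_of_le_normalizer' le_normalizer_of_normal).1 (h.quo N hN h1 h2 ht)
    exact mul_mem hs (h3 ⟨by simpa using mul_mem (inv_mem (h.ST hs)) ht, hn⟩)

theorem exists_z0 : ∃ z ∈ S, orderOf z = 2 ∧ ∀ x ∈ S, orderOf x = 2 → x = z := by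
  obtain ⟨z, hz, hz2, hc⟩ := exists_orderOf_eq_mem_inf_centralizer h.pS fun e => h.ne fun t _ => by
    have : closure 𝒮 ≤ ⊥ := (closure_le _).2 fun x hx => by
      obtain ⟨g, hg⟩ := h.exists_conj hx
      simpa [e] using hg
    exact mem_bot.1 (this (h.gen ▸ mem_top t)) ▸ one_mem _
  exact ⟨z, hz, hz2, fun x hx hx2 => h.uq x (h.Sm hx) z (h.Sm hz) hx2 hz2 (mem_c1.1 (hc hx))⟩

theorem core : pPrimeCore 2 G = ⊥ := by
  obtain ⟨z, -, -, hu⟩ := h.exists_z0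
  have ho : Odd (Nat.card (pPrimeCore 2 G)) := Nat.coprime_two_right.1 coprime_card_pPrimeCore
  have key : ∀ x ∈ T, x ∈ pPrimeCore 2 G → x = 1 := fun x hx hx' =>
    eq_one_of_odd ho hx' (h.syl.isPGroup.to_le (zpowers_le.2 hx))
  have k2 : ∀ x ∈ S, x ∉ pPrimeCore 2 G → x * x ∈ pPrimeCore 2 G → x = z := fun x hx h1 h2 => hu x hx
    (orderOf_two_of_mul_self (fun e => h1 (e ▸ one_mem _)) (key _ (h.ST (mul_mem hx hx)) h2))
  by_contra c
  exact h.fin1 c (fun x hx y hy h1 h2 h3 h4 => by rw [k2 x hx h1 h3, k2 y hy h2 h4]; simp)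
    fun x hx => key x hx.1 hx.2 ▸ one_mem _

theorem exists_z : ∃ z ∈ S, orderOf z = 2 ∧ z ∈ center G ∧ ∀ x ∈ 𝒮, x * x = 1 → x ∈ zpowers z := by
  obtain ⟨z, hz, hz2, -⟩ := h.exists_z0
  have hc := zstar_center h.core (hz2 ▸ pow_orderOf_eq_one z) fun g e =>
    (h.uq _ (h.Sm hz) _ (h.conj z (h.Sm hz) g) hz2 (ord2 hz2 g) e).symm
  refine ⟨z, hz, hz2, hc, fun x hx e => ?_⟩
  rcases eq_or_ne x 1 with rfl | c
  · exact one_mem _
  · exact h.uq x hx z (h.Sm hz) (orderOf_two_of_mul_self c e) hz2 (mem_center_iff.1 hc x) ▸ mem_zpowers x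

omit [Finite G] h in
theorem normal_zpowers {z : G} (hz : z ∈ center G) : (zpowers z).Normal :=
  ⟨fun x hx g => by rwa [mem_center_iff.1 (zpowers_le.2 hz hx) g, mul_inv_cancel_right]⟩

omit [Finite G] in
theorem normal_cl (N : Subgroup G) [hN : N.Normal] : (closure (𝒮 ∩ N)).Normal :=
  normalizer_eq_top_iff.1 (top_le_iff.1 (le_normalizer_closure_iff.2 fun g _ x hx =>
    subset_closure ⟨h.conj x hx.1 g, hN.conj_mem x hx.2 g⟩))

omit [Finite G] in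
theorem inf_cl {N : Subgroup G} (hN : N ≠ ⊤) : T ⊓ closure (𝒮 ∩ N) ≤ S := fun x hx =>
  (h.mem x).2 ⟨hx.1, h.ih N hN x hx.2 (h.syl.isPGroup.to_le (zpowers_le.2 hx.1))⟩

omit [Finite G] in
theorem fin2 {N : Subgroup G} [N.Normal] (h1 : N ≠ ⊤) {x : G} (hx : x ∈ S) (hx' : x ∈ N) (x1 : x ≠ 1)
    (h2 : ∀ x ∈ S, ∀ y ∈ S, x ∉ N → y ∉ N → x⁻¹ * y ∈ N) : False := by
  have := h.normal_cl N
  have key : ∀ x ∈ S, x ∈ N → x ∈ closure (𝒮 ∩ N) := fun x hx hx' => subset_closure ⟨h.Sm hx, hx'⟩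
  exact h.fin1 (fun e => x1 (mem_bot.1 (e ▸ key x hx hx'))) (fun x hx y hy a b _ _ =>
    key _ (mul_mem (inv_mem hx) hy) (h2 x hx y hy (mt (key x hx) a) (mt (key y hy) b))) (h.inf_cl h1)

variable {ρ z α : G} (hz : z ∈ S) (hz2 : orderOf z = 2) (hc : z ∈ center G)
  (hu : ∀ x ∈ 𝒮, x * x = 1 → x ∈ zpowers z)
include hz hz2 hc hu

theorem exists_qt' : ∃ ρ α, Qt S ρ z α := by
  have zz := mul_self_of_orderOf_two hz2
  refine exists_qt h.pS (fun x hx hx2 => ((mem_zpowers_two zz).1 (hu x (h.Sm hx)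
    (mul_self_of_orderOf_two hx2))).resolve_left (BSW.ne_one_of_orderOf_two hx2)) fun c => ?_
  have := normal_zpowers hc
  have key : ∀ x ∈ S, x ∉ zpowers z → x * x ∈ zpowers z → x * x = z := fun x hx h1 h2 =>
    ((mem_zpowers_two zz).1 h2).resolve_left fun e => h1 (hu x (h.Sm hx) e)
  refine h.fin1 (N := zpowers z) (fun e => BSW.ne_one_of_orderOf_two hz2 (zpowers_eq_bot.1 e))
    (fun x hx y hy h1 h2 h3 h4 => hu _ (h.Sm (mul_mem (inv_mem hx) hy)) ?_) (inf_le_right.trans (zpowers_le.2 hz))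
  calc x⁻¹ * y * (x⁻¹ * y) = x⁻¹ * (y * x⁻¹) * y := by group
    _ = (x * x)⁻¹ * (y * y) := by rw [comm_of_isMulCommutative c hy (inv_mem hx)]; group
    _ = 1 := by rw [key x hx h1 h3, key y hy h2 h4, inv_mul_cancel]

variable (q : Qt S ρ z α)
include q

omit hc hu in
theorem res : pResidual 2 G = ⊤ := pResidual_two_eq_top_iff.2 fun N hN => by
  have := normal_of_index_eq_two hN
  refine h.fin2 (N := N) (fun e => by simp [e] at hN) hz (q.sq α q.hα q.αρ ▸ mul_self_mem_of_index_two hN α)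
    (BSW.ne_one_of_orderOf_two hz2) fun x _ y _ h1 h2 => (mul_mem_iff_of_index_two hN).2 (by simp [h1, h2])

omit hc hu in
theorem fin3 : ¬ T ≤ S ⊔ center G := fun e => h.ne (by
  have hr := h.res hz hz2 q
  obtain ⟨P, rfl⟩ := h.syl.exists_sylow_top
  refine sylow_le_of_fusion hr P S fun x hx g hy => ?_
  obtain ⟨s, hs, c, hc, rfl⟩ := (mem_sup_of_le_normalizer' le_normalizer_of_normal).1 (e hx)
  have e1 : g * (s * c) * g⁻¹ = g * s * g⁻¹ * c := by rw [mul_assoc _ g⁻¹, mem_center_iff.1 hc g⁻¹]; group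
  have h1 : c ∈ (P : Subgroup G) := by simpa using mul_mem (inv_mem (h.ST hs)) hx
  have h2 := mul_mem (inv_mem hs) ((h.mem _).2 ⟨(mul_mem_cancel_right h1).1 (e1 ▸ hy), h.conj s (h.Sm hs) g⟩)
  rwa [e1, mul_inv_rev, mul_assoc, ← mul_assoc s⁻¹, mem_center_iff.1 hc, inv_mul_cancel_left])

omit hz hz2 hc hu q in
theorem pZ : IsPGroup 2 (center G) := fun x => by
  obtain ⟨k, hk⟩ := exists_pow_coprime_orderOf (p := 2) (x : G)
  exact ⟨k, Subtype.ext (zpowers_eq_bot.1 (eq_bot_iff.2 (h.core ▸ le_pPrimeCore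
    (normal_zpowers (pow_mem x.2 _)) (by rwa [Nat.card_zpowers]))))⟩

theorem uZ {n : G} (hn : n ∈ center G) (e : n * n = 1) (n1 : n ≠ 1) : n = z := by
  by_contra c
  have zz := mul_self_of_orderOf_two hz2
  have key : ∀ x ∈ S, x ∉ zpowers n → x * x ∈ zpowers n → x = z := fun x hx h1 h2 => by
    rcases (mem_zpowers_two e).1 h2 with e' | e'
    · exact ((mem_zpowers_two zz).1 (hu x (h.Sm hx) e')).resolve_left fun e => h1 (e ▸ one_mem _)
    · exact absurd ((mem_zpowers_two zz).1 (hu n (e' ▸ h.Sm (mul_mem hx hx)) e)) (not_or.2 ⟨n1, c⟩)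
  exact h.fin3 hz hz2 q ((h.quo _ (normal_zpowers hn) (fun e => n1 (zpowers_eq_bot.1 e))
    fun x hx y hy h1 h2 h3 h4 => by rw [key x hx h1 h3, key y hy h2 h4]; simp).trans
      (sup_le_sup_left (zpowers_le.2 hn) _))

theorem mem_z {N : Subgroup G} [hN : N.Normal] (h1 : N ≠ ⊤) {x : G} (hx : x ∈ 𝒮) (hx' : x ∈ N) : x ∈ zpowers z := by
  have := normal_zpowers hc
  obtain ⟨g, hg⟩ := h.exists_conj hx
  suffices ∀ x ∈ S, x ∈ N → x ∈ zpowers z by
    simpa [mul_assoc] using ‹(zpowers z).Normal›.conj_mem _ (this _ hg (hN.conj_mem x hx' g)) g⁻¹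
  clear hx hx' hg x g
  by_cases c : ∃ x ∈ S, x ∈ N ∧ x ∉ zpowers ρ
  · obtain ⟨x, hx, hx', c⟩ := c
    have h2 : ρ * ρ ∈ N := by
      have := mul_mem (hN.conj_mem x hx' ρ) (inv_mem hx')
      rwa [show ρ * x * ρ⁻¹ * x⁻¹ = ρ * (x * ρ * x⁻¹)⁻¹ by group, q.inv hx c (mem_zpowers ρ), inv_inv] at this
    have h3 : ∀ y ∈ zpowers ρ, y ∈ N ∨ ρ⁻¹ * y ∈ N := by
      rintro _ ⟨k, rfl⟩
      rcases Int.even_or_odd' k with ⟨j, rfl | rfl⟩
      · exact Or.inl (by simpa only [zpow_mul, zpow_two] using zpow_mem h2 j)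
      · exact Or.inr (by simpa only [add_comm, zpow_one_add, inv_mul_cancel_left, zpow_mul, zpow_two] using zpow_mem h2 j)
    have h4 : ∀ y ∈ S, y ∉ N → ρ⁻¹ * y ∈ N := fun y hy hy' => by
      by_cases c' : y ∈ zpowers ρ
      · exact (h3 y c').resolve_left hy'
      · have := (h3 _ (q.mul y hy x hx c' c)).resolve_left (by rwa [mul_mem_cancel_right hx'])
        rwa [← mul_assoc, mul_mem_cancel_right hx'] at this
    exact (h.fin2 h1 hx hx' (fun e => c (e ▸ one_mem _)) fun u hu v hv a b => by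
      simpa [mul_assoc] using mul_mem (inv_mem (h4 u hu a)) (h4 v hv b)).elim
  push Not at c
  have := h.normal_cl N
  set K := closure (𝒮 ∩ N)
  have hs := h.syl.inf_of_le_normalizer (N := K) le_top le_normalizer_of_normal
  have hl : T ⊓ K ≤ zpowers ρ := fun y hy => c y (h.inf_cl h1 hy) (Ctx.cl_le _ hy.2)
  have hcy : IsCyclic ↥(T ⊓ K) := isCyclic_of_le hl
  obtain ⟨P, hP⟩ := hs.exists_sylow'
  have ho : rs K = ⊥ := eq_bot_iff.2 (h.core ▸ le_pPrimeCore (normalizer_eq_top_iff.1 (top_le_iff.1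
    (le_normalizer_of_normal.trans (rs_norm K)))) (Nat.coprime_two_right.2 (odd_map _ (by
      rw [← Nat.not_even_iff_odd, even_iff_two_dvd, ← hasNormalPComplement_iff_not_dvd]
      exact hasNormalPComplement_two_of_isCyclic P (hP ▸ isCyclic_of_surjective _
        (subgroupOfEquivOfLe hs.le).symm.surjective)))))
  have e : T ⊓ K = K := le_antisymm inf_le_right fun y hy => by
    obtain ⟨k, hk, s, hs', rfl⟩ := exists_rs_mul hs hy
    rwa [mem_bot.1 (ho.le hk), one_mul]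
  have hp := hs.isPGroup
  rw [e] at hcy hp hl
  have hC : pResidual 2 G ≤ C[K] := (closure_le _).2 fun g hg => le_centralizer_of_isCyclic_two hcy hp
    (A := zpowers g) (by rwa [Nat.card_zpowers, ← Nat.coprime_two_right]) le_normalizer_of_normal (mem_zpowers g)
  intro x hx hx'
  have hK : x ∈ K := subset_closure ⟨h.Sm hx, hx'⟩
  have := q.inv q.hα q.αρ (hl hK)
  rw [← mem_centralizer_iff.1 (hC (h.res hz hz2 q ▸ mem_top α)) x hK, mul_inv_cancel_right] at this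
  exact hu x (h.Sm hx) (mul_eq_one_iff_eq_inv.2 this)

end Mn

end Cfsg.Lib.SCQ
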